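import Cfsg.Agent.CGT.Suz.T2N

set_option maxRecDepth 100000

namespace CL.CGT.Suz.T2

noncomputable section

def st0 : List Step := [.base (nat_lit 0),
  .base (nat_lit 1),
  .base (nat_lit 2),
  .base (nat_lit 3),
  .base (nat_lit 5),
  .base (nat_lit 6),
  .sym (nat_lit 0),
  .sym (nat_lit 1),
  .sym (nat_lit 2),
  .sym (nat_lit 3),
  .sym (nat_lit 4),
  .sym (nat_lit 5),
  .sym (nat_lit 6),
  .both (nat_lit 60) (nat_lit 1),
  .both (nat_lit 119) (nat_lit 1),
  .both (nat_lit 126) (nat_lit 1),
  .both (nat_lit 139) (nat_lit 1),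
  .both (nat_lit 145) (nat_lit 1),
  .both (nat_lit 78) (nat_lit 1),
  .both (nat_lit 151) (nat_lit 1),
  .both (nat_lit 156) (nat_lit 1),
  .both (nat_lit 33) (nat_lit 1),
  .both (nat_lit 39) (nat_lit 1),
  .both (nat_lit 85) (nat_lit 1),
  .both (nat_lit 113) (nat_lit 1),
  .both (nat_lit 46) (nat_lit 1),
  .both (nat_lit 85) (nat_lit 1),
  .both (nat_lit 151) (nat_lit 1),
  .both (nat_lit 156) (nat_lit 1),
  .both (nat_lit 53) (nat_lit 1),
  .both (nat_lit 178) (nat_lit 2),
  .sym (nat_lit 5),
  .both (nat_lit 113) (nat_lit 1),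
  .both (nat_lit 133) (nat_lit 2),
  .both (nat_lit 78) (nat_lit 1),
  .both (nat_lit 139) (nat_lit 1),
  .both (nat_lit 145) (nat_lit 1),
  .both (nat_lit 85) (nat_lit 1),
  .both (nat_lit 46) (nat_lit 1),
  .both (nat_lit 92) (nat_lit 2),
  .both (nat_lit 67) (nat_lit 2),
  .both (nat_lit 78) (nat_lit 1),
  .both (nat_lit 85) (nat_lit 1),
  .both (nat_lit 113) (nat_lit 1),
  .both (nat_lit 151) (nat_lit 1),
  .both (nat_lit 156) (nat_lit 1),
  .both (nat_lit 133) (nat_lit 2),
  .both (nat_lit 103) (nat_lit 2),
  .both (nat_lit 39) (nat_lit 1),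
  .both (nat_lit 78) (nat_lit 1),
  .both (nat_lit 139) (nat_lit 1),
  .both (nat_lit 133) (nat_lit 2),
  .both (nat_lit 119) (nat_lit 1),
  .both (nat_lit 145) (nat_lit 1),
  .both (nat_lit 113) (nat_lit 1),
  .both (nat_lit 126) (nat_lit 1),
  .both (nat_lit 133) (nat_lit 2),
  .both (nat_lit 164) (nat_lit 4),
  .sym (nat_lit 2),
  .sym (nat_lit 3),
  .both (nat_lit 113) (nat_lit 1),
  .both (nat_lit 67) (nat_lit 2),
  .both (nat_lit 78) (nat_lit 1),
  .both (nat_lit 133) (nat_lit 2),
  .both (nat_lit 33) (nat_lit 1),
  .both (nat_lit 145) (nat_lit 1),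
  .both (nat_lit 85) (nat_lit 1),
  .both (nat_lit 156) (nat_lit 1),
  .both (nat_lit 92) (nat_lit 2),
  .both (nat_lit 119) (nat_lit 1),
  .both (nat_lit 139) (nat_lit 1),
  .both (nat_lit 151) (nat_lit 1),
  .both (nat_lit 46) (nat_lit 1),
  .both (nat_lit 113) (nat_lit 1),
  .both (nat_lit 85) (nat_lit 1),
  .both (nat_lit 133) (nat_lit 2),
  .both (nat_lit 178) (nat_lit 2),
  .sym (nat_lit 0),
  .sym (nat_lit 5),
  .both (nat_lit 67) (nat_lit 2),
  .both (nat_lit 78) (nat_lit 1),
  .both (nat_lit 163) (nat_lit 4),
  .sym (nat_lit 2),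
  .sym (nat_lit 3),
  .both (nat_lit 113) (nat_lit 1),
  .both (nat_lit 33) (nat_lit 1),
  .both (nat_lit 67) (nat_lit 2),
  .both (nat_lit 78) (nat_lit 1),
  .both (nat_lit 85) (nat_lit 1),
  .both (nat_lit 126) (nat_lit 1),
  .both (nat_lit 119) (nat_lit 1),
  .both (nat_lit 39) (nat_lit 1),
  .both (nat_lit 92) (nat_lit 2),
  .both (nat_lit 179) (nat_lit 2),
  .both (nat_lit 119) (nat_lit 1),
  .both (nat_lit 139) (nat_lit 1),
  .both (nat_lit 145) (nat_lit 1),
  .both (nat_lit 133) (nat_lit 2),
  .both (nat_lit 103) (nat_lit 2),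
  .both (nat_lit 67) (nat_lit 2),
  .both (nat_lit 78) (nat_lit 1),
  .both (nat_lit 85) (nat_lit 1),
  .both (nat_lit 113) (nat_lit 1),
  .both (nat_lit 126) (nat_lit 1),
  .both (nat_lit 151) (nat_lit 1),
  .both (nat_lit 145) (nat_lit 1),
  .both (nat_lit 156) (nat_lit 1),
  .both (nat_lit 133) (nat_lit 2),
  .both (nat_lit 39) (nat_lit 1),
  .both (nat_lit 92) (nat_lit 2),
  .both (nat_lit 103) (nat_lit 2),
  .both (nat_lit 119) (nat_lit 1),
  .both (nat_lit 85) (nat_lit 1),
  .both (nat_lit 126) (nat_lit 1),
  .both (nat_lit 139) (nat_lit 1),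
  .both (nat_lit 151) (nat_lit 1),
  .both (nat_lit 178) (nat_lit 2),
  .sym (nat_lit 0),
  .sym (nat_lit 5),
  .both (nat_lit 161) (nat_lit 4),
  .sym (nat_lit 0),
  .sym (nat_lit 2),
  .both (nat_lit 67) (nat_lit 2),
  .both (nat_lit 78) (nat_lit 1),
  .both (nat_lit 46) (nat_lit 1),
  .both (nat_lit 85) (nat_lit 1),
  .both (nat_lit 180) (nat_lit 2),
  .sym (nat_lit 5),
  .both (nat_lit 113) (nat_lit 1),
  .both (nat_lit 119) (nat_lit 1),
  .both (nat_lit 145) (nat_lit 1),
  .both (nat_lit 156) (nat_lit 1),
  .both (nat_lit 78) (nat_lit 1),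
  .both (nat_lit 92) (nat_lit 2),
  .both (nat_lit 39) (nat_lit 1),
  .both (nat_lit 139) (nat_lit 1),
  .both (nat_lit 33) (nat_lit 1),
  .both (nat_lit 67) (nat_lit 2),
  .both (nat_lit 78) (nat_lit 1),
  .both (nat_lit 103) (nat_lit 2),
  .both (nat_lit 53) (nat_lit 1),
  .both (nat_lit 60) (nat_lit 1),
  .both (nat_lit 85) (nat_lit 1),
  .both (nat_lit 14) (nat_lit 4),
  .both (nat_lit 33) (nat_lit 1),
  .both (nat_lit 133) (nat_lit 2),
  .both (nat_lit 39) (nat_lit 1),
  .both (nat_lit 126) (nat_lit 1),
  .both (nat_lit 145) (nat_lit 1),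
  .both (nat_lit 151) (nat_lit 1),
  .both (nat_lit 156) (nat_lit 1),
  .both (nat_lit 274) (nat_lit 7),
  .sym (nat_lit 1),
  .both (nat_lit 67) (nat_lit 2),
  .both (nat_lit 196) (nat_lit 9),
  .sym (nat_lit 0),
  .both (nat_lit 33) (nat_lit 1),
  .both (nat_lit 39) (nat_lit 1),
  .both (nat_lit 46) (nat_lit 1),
  .both (nat_lit 53) (nat_lit 1),
  .both (nat_lit 60) (nat_lit 1),
  .both (nat_lit 33) (nat_lit 1),
  .both (nat_lit 178) (nat_lit 2),
  .both (nat_lit 92) (nat_lit 2),
  .both (nat_lit 161) (nat_lit 4),
  .both (nat_lit 113) (nat_lit 1),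
  .both (nat_lit 67) (nat_lit 2),
  .both (nat_lit 78) (nat_lit 1),
  .both (nat_lit 85) (nat_lit 1),
  .both (nat_lit 161) (nat_lit 4),
  .both (nat_lit 67) (nat_lit 2),
  .both (nat_lit 78) (nat_lit 1),
  .both (nat_lit 92) (nat_lit 2),
  .both (nat_lit 85) (nat_lit 1),
  .both (nat_lit 151) (nat_lit 1),
  .both (nat_lit 14) (nat_lit 4),
  .both (nat_lit 33) (nat_lit 1),
  .both (nat_lit 39) (nat_lit 1),
  .both (nat_lit 46) (nat_lit 1),
  .loc (nat_lit
    0x20000a70000a700020060020000570001006002006002000000001600600200030060020060000001006000006000000000600000000b)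
    [nat_lit 6] [nat_lit 0, nat_lit 0x10000000000000000000000000000000200090011, nat_lit 0, nat_lit
    0x50001000000030029, nat_lit 0x50003000600030050, nat_lit 0x700030022, nat_lit 0xc0009000b000000050048],
  .both (nat_lit 113) (nat_lit 1),
  .loc (nat_lit
    0x10000690000310001000031000069000100006b0060060000000031006006000500600600001800050000310060030000000018006003000600600300600000000000170060010005006001006000000000600000000b)
    [nat_lit 9, nat_lit 10] [nat_lit 0, nat_lit 0, nat_lit 0x30001000000030037, nat_lit 0, nat_lit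
    0x7000100000003003e, nat_lit 0x7000400060000000400b5, nat_lit 0, nat_lit 0xd0009000c00030037, nat_lit
    0xd0000000000000000000000000000000000000000000000000000000e0115, nat_lit 0x11001000090017, nat_lit
    0x1300010003],
  .both (nat_lit 78) (nat_lit 1),
  .both (nat_lit 85) (nat_lit 1),
  .both (nat_lit 67) (nat_lit 2),
  .both (nat_lit 161) (nat_lit 4),
  .sym (nat_lit 2),
  .both (nat_lit 113) (nat_lit 1),
  .both (nat_lit 126) (nat_lit 1),
  .both (nat_lit 67) (nat_lit 2),
  .both (nat_lit 78) (nat_lit 1),
  .both (nat_lit 85) (nat_lit 1),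
  .loc (nat_lit 0x200023d000153000200015300023d00010000c800600000020000be006000000500600000002f) [nat_lit 3,
    nat_lit 4] [nat_lit 0, nat_lit 0x10000000000030079, nat_lit
    0x10000000000000000000000000000000000000000000000000000000e0115, nat_lit 0x50004000000050048, nat_lit
    0x700010005],
  .both (nat_lit 113) (nat_lit 1),
  .both (nat_lit 119) (nat_lit 1),
  .both (nat_lit 67) (nat_lit 2),
  .both (nat_lit 119) (nat_lit 1),
  .both (nat_lit 161) (nat_lit 4),
  .sym (nat_lit 2),
  .both (nat_lit 113) (nat_lit 1),
  .both (nat_lit 67) (nat_lit 2),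
  .both (nat_lit 78) (nat_lit 1),
  .both (nat_lit 85) (nat_lit 1),
  .loc (nat_lit
    0x5c00005c000000004100600e000100600e00600b000200600500600b000000002b00600b000600600b006001000100006b006008000000003100600800050060080000180005000031006005000000001800600500060060050060000000000017006003000500600300600000000000150060010002006001006000000000600000000b)
    [nat_lit 16] [nat_lit 0, nat_lit 0, nat_lit 0x30001000000030023, nat_lit 0, nat_lit 0x70001000000030037,
    nat_lit 0, nat_lit 0xb000100000003003e, nat_lit 0xb0008000a0000000400b5, nat_lit 0, nat_lit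
    0x11000d001000030037, nat_lit 0x110000000000000000000000000000000000000000000000000000000e0115, nat_lit
    0, nat_lit 0x17000600000003003e, nat_lit 0x170003000c00030080, nat_lit 0, nat_lit
    0x1d001c00100013001600000000000000000000000000000000000000000000000000000000001300c8, nat_lit
    0x19001e00200000001f001d001a000000090016],
  .both (nat_lit 33) (nat_lit 1),
  .both (nat_lit 39) (nat_lit 1),
  .both (nat_lit 46) (nat_lit 1),
  .loc (nat_lit
    0x500008400005c000500005c000084000500601100006a0000000041006011000100601100600d000500003300600d000200600500600d000000002b00600d000600600d006001000000002a00600b000500600b006001000100006b006008000000003100600800050060080000180005000031006005000000001800600500060060050060000000000017006003000500600300600000000000150060010002006001006000000000600000000b)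
    [nat_lit 20, nat_lit 21] [nat_lit 0, nat_lit 0, nat_lit 0x30001000000030023, nat_lit 0, nat_lit
    0x70001000000030037, nat_lit 0, nat_lit 0xb000100000003003e, nat_lit 0xb0008000a0000000400b5, nat_lit 0,
    nat_lit 0x11000d001000030037, nat_lit 0x110000000000000000000000000000000000000000000000000000000e0115,
    nat_lit 0, nat_lit 0x170006000000030037, nat_lit 0, nat_lit 0x1b000600000003003e, nat_lit
    0x1b0003000c00030080, nat_lit 0x1b0018001a0000000400b5, nat_lit 0, nat_lit
    0x23002000100013001600000000000000000000000000000000000000000000000000000000001300c8, nat_lit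
    0x2500030036, nat_lit 0x1d0022000000000000000000000000002500270000000000130011000000000000001300f7,
    nat_lit 0x290001000b],
  .both (nat_lit 139) (nat_lit 1),
  .both (nat_lit 151) (nat_lit 1),
  .loc (nat_lit
    0x20001af0001af000100602100602100020000fa00602100000060210000660000006016006016000000601100601100ff0060110060180006006019006019000100601a006019000500006900601a000000601a00001e000500601900601100000060180060110003006011006016000100601600600c00010000680060130006000069006013000500601300003200060060110060110001006011006006000600008100600f000100600f006004000300600600600c000000002f00600c000600600c006002000100006b0060090006006004006009000500600900001800050000310060060000000018006006000600600600600000000000170060040005006004006000000000001600600200030060020060000001006000006000000000600000000b)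
    [nat_lit 36] [nat_lit 0, nat_lit 0x10000000000000000000000000000000200090011, nat_lit 0, nat_lit
    0x50001000000030029, nat_lit 0, nat_lit 0x90001000000030037, nat_lit 0, nat_lit 0xd000100000003003e,
    nat_lit 0xd000a000c0000000400b5, nat_lit 0, nat_lit 0x13000f000d000a000400b4, nat_lit
    0x130000000000000000000000000000000000000000000000000000000e0115, nat_lit 0, nat_lit
    0x19000800000003003e, nat_lit 0x190005000e00030093, nat_lit 0, nat_lit 0x1f00150018000000000005006a,
    nat_lit 0, nat_lit 0x23000d0003000e00240005006a, nat_lit 0, nat_lit 0x27000000000000000400b6, nat_lit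
    0x2700000014001800000005005e, nat_lit 0, nat_lit 0x2d001e002400030051, nat_lit 0, nat_lit 0, nat_lit 0,
    nat_lit 0x350000000000030038, nat_lit 0x33002300120000003700050062, nat_lit
    0x330023000d000a002000220000000000000000002b002a00370039000e013e, nat_lit 0x3100250034003b0033000500b3,
    nat_lit 0x3d003100020001, nat_lit 0x30003f002f0003002b, nat_lit 0, nat_lit 0x430000000000030024, nat_lit
    0x430000001b002e0041002d001c0000004400090011, nat_lit 0x4500470046000000050048],
  .both (nat_lit 113) (nat_lit 1),
  .loc (nat_lit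
    0x50002910002910001006004006004000500019000600400000001760060040002006004006002000500600000600200000060020000d400020001900060000000006000000077)
    [nat_lit 8] [nat_lit 0, nat_lit 0x10000000000030024, nat_lit 0, nat_lit 0x50000000200030038, nat_lit 0,
    nat_lit 0x90005000000030023, nat_lit 0x9000800040003007a, nat_lit
    0x900080001000000000000000000000000000000000000000000000000000000000000000b001300c7, nat_lit
    0xd000f000e000000050061],
  .both (nat_lit 139) (nat_lit 1),
  .both (nat_lit 151) (nat_lit 1),
  .both (nat_lit 139) (nat_lit 1),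
  .both (nat_lit 119) (nat_lit 1),
  .both (nat_lit 139) (nat_lit 1),
  .both (nat_lit 151) (nat_lit 1),
  .loc (nat_lit
    0x4fe0004fe000100600300600300000001760060030002006003006001000500600000600100000060010000d40000006000000077)
    [nat_lit 6] [nat_lit 0, nat_lit 0, nat_lit 0x30000000200030038, nat_lit 0, nat_lit 0x70003000000030023,
    nat_lit 0x7000600010000000000000000000000000000000000000000000000000000000000000009001300c7, nat_lit
    0x9000b000a00000000000000090014],
  .both (nat_lit 39) (nat_lit 1),
  .both (nat_lit 46) (nat_lit 1),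
  .both (nat_lit 39) (nat_lit 1),
  .loc (nat_lit
    0x300061e00096b000300096b00061e000300600000600200020003ff0060020005006002000189000200029000600000050060000000e1)
    [nat_lit 5, nat_lit 6] [nat_lit 0, nat_lit 0x10000000000030079, nat_lit 0, nat_lit 0x50000000000030079,
    nat_lit 0x5000000020003008d, nat_lit 0x300090008000000000000000800a7, nat_lit 0xb00010007],
  .both (nat_lit 39) (nat_lit 1),
  .both (nat_lit 78) (nat_lit 1),
  .both (nat_lit 133) (nat_lit 2),
  .both (nat_lit 113) (nat_lit 1),
  .both (nat_lit 133) (nat_lit 2),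
  .both (nat_lit 39) (nat_lit 1),
  .both (nat_lit 46) (nat_lit 1),
  .both (nat_lit 139) (nat_lit 1),
  .both (nat_lit 145) (nat_lit 1),
  .both (nat_lit 133) (nat_lit 2),
  .both (nat_lit 161) (nat_lit 4),
  .sym (nat_lit 0),
  .sym (nat_lit 2),
  .both (nat_lit 46) (nat_lit 1),
  .both (nat_lit 39) (nat_lit 1),
  .both (nat_lit 33) (nat_lit 1),
  .loc (nat_lit
    0x300093d000953000300095300093d00020003fb00600700030060050060070001006007006002000200028c0060050001006005006000000300600000600200020003ff0060020005006002000189000200029000600000050060000000e1)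
    [nat_lit 10, nat_lit 11] [nat_lit 0, nat_lit 0x10000000000030079, nat_lit 0, nat_lit 0x50000000000030079,
    nat_lit 0x5000000020003008d, nat_lit 0, nat_lit 0xb000400000000000000050046, nat_lit 0, nat_lit
    0xf000a000c00030051, nat_lit 0xf000800000000000000050046, nat_lit 0x130012000e000000000000000800a7,
    nat_lit 0x1500010007],
  .both (nat_lit 39) (nat_lit 1),
  .both (nat_lit 78) (nat_lit 1),
  .both (nat_lit 133) (nat_lit 2),
  .both (nat_lit 113) (nat_lit 1),
  .both (nat_lit 151) (nat_lit 1),
  .both (nat_lit 133) (nat_lit 2),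
  .both (nat_lit 39) (nat_lit 1),
  .both (nat_lit 46) (nat_lit 1),
  .both (nat_lit 78) (nat_lit 1),
  .both (nat_lit 85) (nat_lit 1),
  .both (nat_lit 145) (nat_lit 1),
  .both (nat_lit 156) (nat_lit 1),
  .both (nat_lit 161) (nat_lit 4),
  .sym (nat_lit 0),
  .both (nat_lit 46) (nat_lit 1),
  .both (nat_lit 39) (nat_lit 1),
  .loc (nat_lit
    0x2000cd70007fa00020007fa000cd70001006000006002000200054200600200050060020004f100020007f900600000050060000004d6)
    [nat_lit 5, nat_lit 6] [nat_lit 0, nat_lit 0x10000000000030079, nat_lit 0, nat_lit 0x50000000000030079,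
    nat_lit 0x500000000000000020005005e, nat_lit 0x300090008000000050048, nat_lit 0xb00010005],
  .both (nat_lit 113) (nat_lit 1),
  .loc (nat_lit
    0x2000c0c000c050002000c05000c0c000200600200078100050004f5006002000100600200600000020007850060000005006000000337)
    [nat_lit 5, nat_lit 6] [nat_lit 0, nat_lit 0x10000000000030079, nat_lit 0, nat_lit
    0x500010000000000000005005f, nat_lit 0x70003007b, nat_lit 0x300060009000000050048, nat_lit 0xb00010005],
  .both (nat_lit 113) (nat_lit 1),
  .loc (nat_lit
    0x2000cc00007ee00020007ee000cc00001006000006002000200053a00600200060060020004f500020007ed00600000060060000004d5)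
    [nat_lit 5, nat_lit 6] [nat_lit 0, nat_lit 0x10000000000030080, nat_lit 0, nat_lit 0x50000000000030080,
    nat_lit 0x5000000000000000200050069, nat_lit 0x300090008000000050048, nat_lit 0xb00010005],
  .both (nat_lit 113) (nat_lit 1),
  .loc (nat_lit
    0x20015fd00166500020016650015fd00010060020060050002000d4400600500060060050005760002000cff0060020006000552006002000300600200600000060003790060000002006000000376)
    [nat_lit 8, nat_lit 9] [nat_lit 0, nat_lit 0x10000000000030081, nat_lit 0, nat_lit 0x50004000000030094,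
    nat_lit 0x50001000000000000000000000000000800a4, nat_lit 0, nat_lit 0xb0000000000030080, nat_lit
    0xb000000000000000700050069, nat_lit 0x9000f000e000000050048, nat_lit 0x1100010005],
  .both (nat_lit 113) (nat_lit 1),
  .loc (cat (nat_lit 16384) (nat_lit
    0x50060960060fe00000060fe00609400010060fd006091000600609f0060fb00010060fb00608f00000060c90060c6000500607100602d00ff0060c60060c700ff00602d0060c400ff00607200607100ff0060b00060c200050060740060af00ff0060af0060cc00020060d90060f100050060f100608d00010060ed0060ef00050060ef00608c00000060ee00608c00050060ed00608b00020060ec00608b00000060eb00608b00050060e10060e900060060e900608900050060d70060e400010060e50060bb00060060e30060e500050060e500608800010060e400608800050060e300608600060060880060e100000060e100608600050060dc0060df00060060df00608500010060de00608400060060840060dc00000060dc00608200010060d90060cb00000060800060d900050060d900607f00010060b70060d700060060d700607c00020060d600607c00000060d500607c00010060d4006079000500607c0060d200010060d2006078000600608c0060d000010060d000607700000060cf006076000500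60760060cd00010060cd00607500050060cc00607400000060cb00607400000060c70060c900050060c900607300050060c00060c700060060c700607200060060c600607100020060720060c400050060c400607100020060740060c200010060c200607100000060730060c000060060c000607000000060b70060be00050060be00606d00050060b70060bb000000606d0060bb00060060bb00606c00050003860060b800000003480060b800020060b800606c00060060b7006069000500606c0060b400020003860060b400000060b400606900050060b300606800000060b200606800010060720060b000050060b000606300020060af00606300050060a30060ad00060060ad00606200010060ac00606100050060600060a900020060600060a900060060a900605e00050060a800032500020060a700032500000060a600032500020060a500605b00060060610060a300000060a300605b00060003250060a0000400605b0060a000010060a0006059000100609f006057000600609800609d000500609d006055000000605500609b000600609b006054000100609a00605400050060540060980000006098006052000100609700604f00000060960001790005000179006094000100609400604b000500604a00609100000060910060910006006091006048000200604a00608f000600608f006046000200607f00608d000000608d006043000100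608c006041000100608b00603f0001006085006089000500608900603e000000608800603e000600603e006086000100608600603d000500608500603c000000608400603c000600603c006082000100608200603b000100607d006080000500608000603a000000607f00603a00050001ac00607d000000607d0001ac000100607c0060380002006038006079000000023900607900050060790060360005006078006035000600607700603300010060760060320005006075000232000100607400602e000600607300602d000500607200602d000200607100602d000000607000602d000100606000606d000200022f00606d000600606d00020f000000606c00020f0002006069000343000500020f006069000100606900602c000100606800602a0001006062006066000500606600020b000600020b0060640001006064006029000100606300602700050060620001f900000060610001f900060060600001f8000500605d00605e000200605e0001f8000000605d0001f800060001f900605b000100605b006026000400602600605900060060590060240002006026006057000600605700602300010060450060550006006055000096000000605400009600050000960060520001006052006022000600604b00604f000200029900604f000500604f006021000500604c00029900000000e600604c000200604c006021000500604b0000d6000600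604a0000c9000000604800604800050060480000c9000100602300604600020060460000c90006006045000049000200603a006043000100604300601f000500603f006041000600604100601e000600601d00603f000000603f00601b000100603e006019000600603d006017000100603c006015000600603b006014000100603a0000ef000600602c0060380005006038006013000000015100603600020060360060130001006035006013000100601e006033000500603300014f000500603200014e00050060290060300006006030006012000000014d00602e000200602e006012000100602d006012000500602c00013c000600601300602a000000602a00013c000600602900013a0005006012006027000000602700013a00060060260060110001000131006024000400602400601100020060230060110005006022000078000000602100007800020000ee00601f000600601f006010000500601e00600f000000601d00600f000600600f00601b000100601b00600d0005006015006019000600601900600c000500600e006017000100601700600c000000600d006015000600601500600b000100601400600b00000060130000bd00000060120000bb00010060110000b00002006010006009000100600f0000ab000100600e0000aa000600600d0000a7000500600c0000a7000000600b0000a700060000ee006009000100600900600300010000c80060060006006003006006000500600600002f000000002f0060040006006004006001000500600300600100000000160060010003006001006000000000600000000b)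
    (nat_lit
    0x2000cd8000cd800020060a800611800ff00611800611a00ff0060a60060a700ff00610e00611100ff0060a50060a300ff00610c00611400020060eb0060fb00ff00614f0060fb00020060ed00615100050061510060ec00000060ec00614f000200614f0060eb000500612d00614c00020060fd00614c000600614c0060d200060061490060fd00050060d600614900020061490060d2000600612d0060d500000060d700612d00000060ef00612a000500612a0060ee00020061280060ee00ff0060ee00611c000600612a00614100050061410060d000060060ee00613f000000613f0060d000000060ed00612c000500612c0060eb00060060eb006114000100611f0060eb00000060de00611f000600611d0060de00010060dc006120000100612100612e00010060cf0060df00ff0060df00613100010061320060e9000500613000613200060061320060cf00010061310060cf00060061300060cd00050060cf00612e000000612e0060cd000100612d0060c9000100612c0060c6000500611c00612a000100612a0060be000200611c006128000100612800022f0005006123006125000000022f00612500060061250060b800020060b70061230006006123000343000500612000612100060061210060b300060061200060b2000600611f0060ac00010060b200611d000000611d0060ac000100611c0060a900020060a800611a000500611a0060a700000060a800611800050061180060a600030060a800611500020007f900611500050061150004d600010061140060a300060060a700611100040060a500611100020061110060a000060060a600610e00040060a300610e000000610e0060a000010060a500610c000200610c00609f00010060d600610800020061080060d40005006104006108000600610800609a000500610500609a0001006100006105000600610500609700000061040060970001006101006098000500610000610100060061010060960006006100006094))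
    [nat_lit 347] [nat_lit 0, nat_lit 0, nat_lit 0x30001000000030029, nat_lit 0, nat_lit 0, nat_lit
    0x9000600000003003e, nat_lit 0, nat_lit 0xd000b00090008000400b4, nat_lit
    0xd0000000000000000000000000000000000000000000000000000000e0115, nat_lit 0, nat_lit
    0x13000f0012000000000005006a, nat_lit 0, nat_lit 0, nat_lit 0, nat_lit 0, nat_lit 0, nat_lit 0, nat_lit
    0, nat_lit 0, nat_lit 0, nat_lit 0, nat_lit 0, nat_lit 0x2b0017001c0003003e, nat_lit 0, nat_lit
    0x2f001900000000001e0005005f, nat_lit 0, nat_lit 0x3300190018002c000400b5, nat_lit 0, nat_lit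
    0x37001b0000000000200005006a, nat_lit 0, nat_lit 0, nat_lit 0, nat_lit 0x3f0021001600030080, nat_lit 0,
    nat_lit 0, nat_lit 0, nat_lit 0, nat_lit 0x490023000000030057, nat_lit 0, nat_lit 0, nat_lit
    0x4f0000002600030038, nat_lit 0, nat_lit 0, nat_lit 0x55000000280003003f, nat_lit 0, nat_lit 0, nat_lit
    0, nat_lit 0x5d0025000000030023, nat_lit 0, nat_lit 0x610051004f0054000400b5, nat_lit 0, nat_lit 0,
    nat_lit 0x67000000000020003e0005005e, nat_lit 0, nat_lit 0, nat_lit 0x6d0027000000030023, nat_lit 0,
    nat_lit 0x7100270000005a000400b4, nat_lit 0, nat_lit 0, nat_lit 0, nat_lit 0, nat_lit 0, nat_lit 0,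
    nat_lit 0x7f003a003c0003003f, nat_lit 0, nat_lit 0x83003d003c0081000400b5, nat_lit 0, nat_lit
    0x87004200000000007600050046, nat_lit 0, nat_lit 0, nat_lit 0x8d000000000024004800050045, nat_lit 0,
    nat_lit 0x910000009200030037, nat_lit 0, nat_lit 0, nat_lit 0, nat_lit 0x990043000000030023, nat_lit
    0x9b00030036, nat_lit 0, nat_lit 0x9f009a009d00030079, nat_lit 0x9f004300000098000400b4, nat_lit 0,
    nat_lit 0xa500450000000000000005005f, nat_lit 0, nat_lit 0, nat_lit 0xab000000000000008c00050069, nat_lit
    0, nat_lit 0xaf0047004e00030080, nat_lit 0, nat_lit 0xb30049004e0003009e, nat_lit 0, nat_lit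
    0xb7004d0023000000000005006a, nat_lit 0, nat_lit 0, nat_lit
    0xbd0000000000000000000000000000000000000000000000000000000000000000000000bc001300ef, nat_lit 0, nat_lit
    0, nat_lit 0, nat_lit 0, nat_lit 0, nat_lit 0xc900530000000000000005006a, nat_lit 0, nat_lit
    0xcd00000000000000c60005005e, nat_lit 0, nat_lit 0, nat_lit 0xd300590000000000000005005f, nat_lit
    0xd50003007b, nat_lit 0, nat_lit 0, nat_lit 0xdb0000000000030080, nat_lit 0xdb00000000000000c200050069,
    nat_lit 0, nat_lit 0, nat_lit 0, nat_lit 0, nat_lit 0, nat_lit 0, nat_lit 0, nat_lit 0, nat_lit 0,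
    nat_lit 0, nat_lit 0xf30070000000030037, nat_lit 0xf3006d007200030079, nat_lit 0, nat_lit 0, nat_lit
    0xfb000000000000000000000000000000000000000000000000000000000000000000000000001300c9, nat_lit 0, nat_lit
    0, nat_lit 0x10100750000000000fd0005005e, nat_lit 0, nat_lit 0x10500770029002c007a0005006a, nat_lit 0,
    nat_lit 0, nat_lit 0, nat_lit 0x10d007b002f0034007e0005006a, nat_lit 0, nat_lit 0, nat_lit
    0x113007d0036007a010c0005005e, nat_lit 0, nat_lit 0, nat_lit 0, nat_lit 0x11b008a010000030024, nat_lit 0,
    nat_lit 0x11f008d009600030080, nat_lit 0, nat_lit 0x123009301240003003e, nat_lit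
    0x123009100000096000400b5, nat_lit 0, nat_lit 0x12900970000000000000005005f, nat_lit 0, nat_lit 0,
    nat_lit 0, nat_lit 0x13100a800aa00030038, nat_lit 0, nat_lit 0, nat_lit 0x13700a900ac0003003e, nat_lit 0,
    nat_lit 0x13b013901370133000400b4, nat_lit 0, nat_lit 0, nat_lit 0x14100b600b800030058, nat_lit
    0x14100b3004c000000000005006a, nat_lit 0, nat_lit 0x14700ba00c40003003f, nat_lit 0, nat_lit 0, nat_lit 0,
    nat_lit 0, nat_lit 0, nat_lit 0x15300bd00c200030080, nat_lit 0x15300c000bb00c2000400b5, nat_lit 0,
    nat_lit 0, nat_lit 0x15b00c500c40149000400b5, nat_lit 0, nat_lit 0, nat_lit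
    0x16100c70052005c00e60005005e, nat_lit 0, nat_lit 0, nat_lit 0, nat_lit 0x16900d7000000030024, nat_lit
    0x16900d600da00030038, nat_lit 0, nat_lit 0, nat_lit 0x17100d9000000030023, nat_lit
    0x171016d016c0003007a, nat_lit 0, nat_lit 0x17700d900dc0003003e, nat_lit 0x177016d01690170000400b5,
    nat_lit 0, nat_lit 0x17d0179017c00030037, nat_lit 0, nat_lit 0x18100e100e80003003e, nat_lit 0, nat_lit
    0x18500e3005b005e00ea00050046, nat_lit 0, nat_lit 0x18900e300e600030079, nat_lit 0, nat_lit 0, nat_lit
    0x18f00e500e20182000400b5, nat_lit 0, nat_lit 0x1930183019100030037, nat_lit 0, nat_lit 0, nat_lit 0,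
    nat_lit 0x19b00eb0000006600ee0005005f, nat_lit 0, nat_lit 0, nat_lit 0x1a100ef006a0084011a0005006a,
    nat_lit 0, nat_lit 0x1a500f1006b007200fa0005005f, nat_lit 0, nat_lit 0, nat_lit 0, nat_lit 0, nat_lit
    0x1af00f9007400d4017000050069, nat_lit 0, nat_lit 0x1b300ff010200030037, nat_lit
    0x19700e9006000000000000000fc010301b50009000f, nat_lit 0, nat_lit 0x1b90108010a0003003f, nat_lit 0,
    nat_lit 0, nat_lit 0x1bf010b010a01bb000400b5, nat_lit 0, nat_lit 0x1c3011001120003003f, nat_lit 0,
    nat_lit 0, nat_lit 0, nat_lit 0x1cb0111010f01c8000400b4, nat_lit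
    0x17c016f00d300590000000000000000001e0031007c010e01c801cd000e0121, nat_lit 0x1c901cc01cf017c01b100050061,
    nat_lit 0, nat_lit 0x1d30113011201c5000400b5, nat_lit 0, nat_lit 0, nat_lit 0, nat_lit 0, nat_lit 0,
    nat_lit 0x1df01190086011801dc0005005e, nat_lit 0, nat_lit 0x1e3011e01b400030079, nat_lit
    0x199019801b801e501e3011b00870042000000000000000000000000000000000000005000c80160001400ca, nat_lit
    0x1e701990002000b, nat_lit 0x18801e9015f01620004007a, nat_lit 0x18601ec016400030003, nat_lit
    0x18c01ed00e300030005, nat_lit 0x18f01ed018e0003000d, nat_lit 0x1ef01890002000b, nat_lit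
    0x1f1019500020001, nat_lit 0, nat_lit 0x1f7011f009000b001400005006a, nat_lit 0, nat_lit 0, nat_lit
    0x1fd012c012e00030038, nat_lit 0, nat_lit 0, nat_lit 0x20301ff01fd0202000400b5, nat_lit
    0x13d013b00ae008b0000000000000000000000000098012a02020205000e0130, nat_lit 0, nat_lit 0, nat_lit
    0x20b012f00a4012a020200050069, nat_lit 0x135013302080206020d0005005d, nat_lit 0, nat_lit
    0x2110210020b020a000400c0, nat_lit
    0x1a900f600000000000000000000000000000000000000000000009b009d00a10130020a0213001300ee, nat_lit
    0x21501a900f800fa01ae00050045, nat_lit 0, nat_lit 0x219013f00b200b8014c00050045, nat_lit 0, nat_lit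
    0x21d0144014800030031, nat_lit 0x21d0146014e0003003f, nat_lit 0, nat_lit 0x2230144014c00030074, nat_lit
    0x2230146015000030081, nat_lit 0, nat_lit 0, nat_lit 0x22b0000000000030079, nat_lit
    0x22b000001520003008d, nat_lit 0, nat_lit 0x231014d015200030037, nat_lit 0, nat_lit
    0x235014f015200030079, nat_lit 0, nat_lit 0, nat_lit 0x23b015900c3000000000000005600d2016600090011,
    nat_lit 0, nat_lit 0, nat_lit 0, nat_lit 0x243016701660242000400b5, nat_lit 0, nat_lit
    0x24700d8017000030080, nat_lit 0, nat_lit 0x24b017400000003003e, nat_lit 0x24b017600000248000400b5,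
    nat_lit 0, nat_lit 0x25100dd00e00155023a00050046, nat_lit 0, nat_lit 0x255017d00e00157023a0005005f,
    nat_lit 0, nat_lit 0, nat_lit 0, nat_lit 0x25d019e01a000030038, nat_lit 0, nat_lit 0, nat_lit 0, nat_lit
    0x265025f025d0262000400b5, nat_lit 0x1d30113007d003300190000000000000000000000ec019c02620267000e0130,
    nat_lit 0x2630266026901d3011601c00006006c, nat_lit 0x26b026300020003, nat_lit
    0x2600266026901d601c601ca01d201af00f90071005700d201680244000e0118, nat_lit 0x245026f0260026d01c200050060,
    nat_lit 0x1bd01bb02710241023d0005006c, nat_lit 0x23f023c027300030040, nat_lit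
    0x1d70117007f0037002d007a010a01be02750009000f, nat_lit 0x229014a015a0240027700050068, nat_lit
    0x2790229015d015b00cf00cd00cb00c900630061005c01f4018e025a000e0114, nat_lit 0x27b01d701dc00030037, nat_lit
    0, nat_lit 0x27f01a401de0003003f, nat_lit 0, nat_lit
    0x28301a100ef0067000000000000000000000000000000dc017e0256000e0132, nat_lit 0x2570285028302800282000500b6,
    nat_lit 0x287025300020005, nat_lit 0x28702570002000b, nat_lit 0x285028301a401e0000400b7, nat_lit
    0x25b01f5025a027e01e1028d0255018001b100090016, nat_lit 0x1ab01b0028f0003003d, nat_lit 0, nat_lit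
    0x29301a801ae0003007a, nat_lit 0x1fb012800950000000000000000012b0202020d020f021202180295000e0113, nat_lit
    0, nat_lit 0x2990294029700030080, nat_lit 0x29901a801ac0292000400b5, nat_lit 0, nat_lit
    0x29f01d701da00030023, nat_lit 0, nat_lit 0x2a301d901dc00030079, nat_lit
    0x1f701220127012501fc029b029e029001b20249024f024e02520289028c028e01e202a502a302a1001400d8, nat_lit
    0x2a8029f00020005, nat_lit 0x27a02a901fa021a00040082, nat_lit 0x22a02ac021c00030003, nat_lit
    0x22602ad021f00030009, nat_lit 0x22702b002220003000d, nat_lit 0x23502b202320003000b, nat_lit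
    0x2b3023800020005, nat_lit 0x22d023002b50234022f022e0000000800a6],
  .both (nat_lit 113) (nat_lit 1),
  .both (nat_lit 119) (nat_lit 1),
  .both (nat_lit 67) (nat_lit 2),
  .both (nat_lit 78) (nat_lit 1),
  .both (nat_lit 85) (nat_lit 1),
  .loc (nat_lit
    0x200023600023600020001f900600000ff00600000600100020003250060020004006000006002000000600200032500020060010001f900000060000001f9)
    [nat_lit 7] [nat_lit 0, nat_lit 0, nat_lit 0, nat_lit 0x50000000200030031, nat_lit
    0x50000000000000000000000000000000800a2, nat_lit 0x300000009000800040072, nat_lit 0xb000300020005,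
    nat_lit 0xd0001000000000000000800a6],
  .both (nat_lit 113) (nat_lit 1),
  .loc (nat_lit
    0x22e00022e000200022e006048000500022e006048000300604800603c000500603400604600020060460000e2000500603300604300000000e200604300030060430060300005006029006041000200604100014c000500602800603e000000014c00603e000300603e006025000500035900603c000200603c0060200002006033006038000100602d0060380000006034006038000300603800601e0003006034006035000000601e00603500020060350002920002006034000112000300603300601d000500601d006030000000017f006030000200603000601b000200602800602d000000602900602d000300602d00601a000300602900602a000000601a00602a000200602a0060180002006029000208000300602800601700050060170060250000000217006025000200602500601500000060200060230003006023006012000500031f006020000300600f006020000100602000600d000100601a00601e000200601e000192000200601d00600b000500600b00601b000000601b00016b000200601a000230000000023000601800030060180060090002006017006007000500600700601500000060150001fd000000601200600f000500601100601200020060120001f800000060110001f800050001f800600f000100600f006006000300600600600d000500600d006004000300600200600b000000600b0000db000000014d0060090002006009006001000300600100600700000060070001410005006006006000000100013000600400030060040060000002000190006002000000600200007700000060010000bb00010060000000b0)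
    [nat_lit 75] [nat_lit 0, nat_lit 0, nat_lit 0, nat_lit 0x50000000000030024, nat_lit 0, nat_lit
    0x90001000000030050, nat_lit 0, nat_lit 0, nat_lit 0xf000000040003002a, nat_lit 0, nat_lit
    0x130003000000030023, nat_lit 0, nat_lit 0x17000000060003002a, nat_lit 0, nat_lit 0x1b0009000e0003008d,
    nat_lit 0, nat_lit 0x1f000d0001000000000005005f, nat_lit 0, nat_lit 0, nat_lit
    0x25000000000000000000000000000000000000000000000000000000000000000000000024001300ef, nat_lit
    0x220024002700030039, nat_lit 0, nat_lit 0x2b0000001000030038, nat_lit 0, nat_lit 0, nat_lit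
    0x310016000000030029, nat_lit 0, nat_lit 0, nat_lit 0x370000001800030038, nat_lit 0, nat_lit 0, nat_lit
    0x3d000000000000003600050045, nat_lit 0, nat_lit 0x41001e002000030051, nat_lit
    0x41001b000c000000000005005f, nat_lit 0, nat_lit 0x470029004300030029, nat_lit 0, nat_lit
    0x4b002b000000030023, nat_lit 0x4b002e00300003007a, nat_lit 0, nat_lit 0, nat_lit 0, nat_lit
    0x550034003600030023, nat_lit 0x550034000000000000000000000054000800a3, nat_lit 0, nat_lit
    0x5b0057005a00030029, nat_lit 0x5b0035003300310013001100300052000800a4, nat_lit 0, nat_lit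
    0x610037000000030023, nat_lit 0x61003a003c0003007a, nat_lit 0, nat_lit 0, nat_lit 0, nat_lit
    0x6b0000003e00030023, nat_lit 0x6b000000000000000000000000006a000800a3, nat_lit 0, nat_lit
    0x71006d007000030029, nat_lit 0x710040005c00030050, nat_lit 0x71003d0000000000070019003c0068000800a4,
    nat_lit 0, nat_lit 0x79004600000003007a, nat_lit 0, nat_lit 0x7d004e000000030029, nat_lit
    0x7d005000520003008e, nat_lit 0, nat_lit 0x83000000540003007a, nat_lit 0, nat_lit 0x870064000000030029,
    nat_lit 0x87006600680003008e, nat_lit 0, nat_lit 0x8d0000006a0003007a, nat_lit 0, nat_lit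
    0x91007c00000003008e, nat_lit 0x910079004900470025000000000000000800a4, nat_lit
    0x840086005d00750078008b008a0000008e009000730076006000810080000000950094001300d8],
  .both (nat_lit 39) (nat_lit 1),
  .both (nat_lit 46) (nat_lit 1),
  .both (nat_lit 33) (nat_lit 1),
  .both (nat_lit 39) (nat_lit 1),
  .both (nat_lit 46) (nat_lit 1),
  .both (nat_lit 33) (nat_lit 1),
  .both (nat_lit 39) (nat_lit 1),
  .both (nat_lit 60) (nat_lit 1),
  .both (nat_lit 46) (nat_lit 1),
  .loc (nat_lit 0x20004fe0004fe00010060000060000002000341006000000000600000013a) [nat_lit 3] [nat_lit 0,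
    nat_lit 0x10000000000030024, nat_lit 0x10000000000000000000000000000000200090011, nat_lit
    0x300050004000000050048],
  .both (nat_lit 113) (nat_lit 1),
  .loc (nat_lit
    0x50004fe0004fe00050060060060070002000341006007000000600700013a00000060060000bb00020060020000570001006002006002000000001600600200030060020060000001006000006000000000600000000b)
    [nat_lit 10] [nat_lit 0, nat_lit 0x10000000000000000000000000000000200090011, nat_lit 0, nat_lit
    0x50001000000030029, nat_lit 0x50003000600030050, nat_lit 0x700030022, nat_lit 0, nat_lit 0, nat_lit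
    0xf0000000000030024, nat_lit 0xf0000000e00030038, nat_lit
    0xc00090008000000000000000e0013001200000000001300ff],
  .both (nat_lit 139) (nat_lit 1),
  .both (nat_lit 151) (nat_lit 1),
  .both (nat_lit 139) (nat_lit 1),
  .loc (nat_lit
    0x20000ee0000ee00ff0000ee00600d0005000341006013000000014d006013000200601300600c000100600f00600f000500600c00600f000200034100600f000000600f00013a00020000ee00600d000600600d00600b000000600c0000bb000200600b00600900060000ee006009000100600900600300010000c80060060006006003006006000500600600002f000000002f0060040006006004006001000500600300600100000000160060010003006001006000000000600000000b)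
    [nat_lit 23] [nat_lit 0, nat_lit 0, nat_lit 0x30001000000030029, nat_lit 0, nat_lit 0, nat_lit
    0x9000600000003003e, nat_lit 0, nat_lit 0xd000b00090008000400b4, nat_lit
    0xd0000000000000000000000000000000000000000000000000000000e0115, nat_lit 0, nat_lit
    0x13000f0012000000000005006a, nat_lit 0, nat_lit 0, nat_lit 0, nat_lit 0x1b0017001600030080, nat_lit 0,
    nat_lit 0x1f0000000000030024, nat_lit 0x1f0000001a00030038, nat_lit
    0x1f0000000000000000000000000000002000090011, nat_lit 0, nat_lit 0x270019000000030023, nat_lit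
    0x27002300220003007a, nat_lit
    0x1e000000000000000000000000000000000000002000250022002b002a00000000000000000000001400d3, nat_lit
    0x2d001e00020005],
  .both (nat_lit 113) (nat_lit 1),
  .both (nat_lit 67) (nat_lit 2),
  .both (nat_lit 78) (nat_lit 1),
  .both (nat_lit 92) (nat_lit 2),
  .both (nat_lit 103) (nat_lit 2),
  .both (nat_lit 126) (nat_lit 1),
  .both (nat_lit 178) (nat_lit 2),
  .sym (nat_lit 0),
  .sym (nat_lit 5),
  .both (nat_lit 39) (nat_lit 1),
  .both (nat_lit 46) (nat_lit 1),
  .both (nat_lit 53) (nat_lit 1),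
  .both (nat_lit 179) (nat_lit 2),
  .both (nat_lit 126) (nat_lit 1),
  .both (nat_lit 145) (nat_lit 1),
  .both (nat_lit 178) (nat_lit 2),
  .sym (nat_lit 0),
  .sym (nat_lit 5),
  .both (nat_lit 92) (nat_lit 2),
  .both (nat_lit 119) (nat_lit 1),
  .both (nat_lit 67) (nat_lit 2),
  .both (nat_lit 78) (nat_lit 1),
  .both (nat_lit 85) (nat_lit 1),
  .both (nat_lit 126) (nat_lit 1),
  .both (nat_lit 33) (nat_lit 1),
  .both (nat_lit 103) (nat_lit 2),
  .both (nat_lit 92) (nat_lit 2),
  .both (nat_lit 119) (nat_lit 1),
  .both (nat_lit 139) (nat_lit 1),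
  .both (nat_lit 113) (nat_lit 1),
  .both (nat_lit 161) (nat_lit 4),
  .sym (nat_lit 0),
  .both (nat_lit 46) (nat_lit 1),
  .both (nat_lit 39) (nat_lit 1),
  .both (nat_lit 33) (nat_lit 1),
  .both (nat_lit 39) (nat_lit 1),
  .both (nat_lit 46) (nat_lit 1),
  .both (nat_lit 151) (nat_lit 1),
  .both (nat_lit 14) (nat_lit 4),
  .both (nat_lit 33) (nat_lit 1),
  .both (nat_lit 39) (nat_lit 1),
  .both (nat_lit 46) (nat_lit 1),
  .both (nat_lit 67) (nat_lit 2),
  .both (nat_lit 119) (nat_lit 1),
  .both (nat_lit 161) (nat_lit 4),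
  .sym (nat_lit 0),
  .both (nat_lit 113) (nat_lit 1),
  .both (nat_lit 67) (nat_lit 2),
  .both (nat_lit 46) (nat_lit 1),
  .both (nat_lit 60) (nat_lit 1),
  .both (nat_lit 78) (nat_lit 1),
  .both (nat_lit 165) (nat_lit 4),
  .loc (nat_lit
    0x4900004900020000aa0060040005006004006001000200600100005700000000160060010003006001006000000000600000000b)
    [nat_lit 6] [nat_lit 0, nat_lit 0, nat_lit 0x30001000000030029, nat_lit 0x500030022, nat_lit 0, nat_lit
    0x90007000000030079, nat_lit 0xb000900060000000000000000000000000000001300d0],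
  .both (nat_lit 39) (nat_lit 1),
  .both (nat_lit 46) (nat_lit 1),
  .both (nat_lit 33) (nat_lit 1),
  .both (nat_lit 39) (nat_lit 1),
  .both (nat_lit 33) (nat_lit 1),
  .both (nat_lit 39) (nat_lit 1),
  .both (nat_lit 46) (nat_lit 1),
  .both (nat_lit 60) (nat_lit 1),
  .both (nat_lit 178) (nat_lit 2),
  .both (nat_lit 161) (nat_lit 4),
  .both (nat_lit 113) (nat_lit 1),
  .both (nat_lit 126) (nat_lit 1),
  .both (nat_lit 67) (nat_lit 2),
  .both (nat_lit 78) (nat_lit 1),
  .both (nat_lit 103) (nat_lit 2),
  .both (nat_lit 85) (nat_lit 1),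
  .both (nat_lit 126) (nat_lit 1),
  .both (nat_lit 156) (nat_lit 1),
  .both (nat_lit 145) (nat_lit 1),
  .both (nat_lit 92) (nat_lit 2),
  .both (nat_lit 119) (nat_lit 1),
  .both (nat_lit 139) (nat_lit 1),
  .both (nat_lit 151) (nat_lit 1),
  .both (nat_lit 156) (nat_lit 1),
  .both (nat_lit 67) (nat_lit 2),
  .both (nat_lit 196) (nat_lit 9),
  .sym (nat_lit 0),
  .both (nat_lit 33) (nat_lit 1),
  .both (nat_lit 39) (nat_lit 1),
  .both (nat_lit 46) (nat_lit 1),
  .both (nat_lit 180) (nat_lit 2),
  .both (nat_lit 33) (nat_lit 1),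
  .both (nat_lit 92) (nat_lit 2),
  .both (nat_lit 67) (nat_lit 2),
  .both (nat_lit 163) (nat_lit 4),
  .sym (nat_lit 2),
  .both (nat_lit 113) (nat_lit 1),
  .both (nat_lit 126) (nat_lit 1),
  .both (nat_lit 67) (nat_lit 2),
  .both (nat_lit 78) (nat_lit 1),
  .both (nat_lit 85) (nat_lit 1),
  .both (nat_lit 103) (nat_lit 2),
  .both (nat_lit 126) (nat_lit 1),
  .both (nat_lit 161) (nat_lit 4),
  .sym (nat_lit 0),
  .sym (nat_lit 2),
  .both (nat_lit 46) (nat_lit 1),
  .both (nat_lit 39) (nat_lit 1),
  .both (nat_lit 180) (nat_lit 2),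
  .both (nat_lit 33) (nat_lit 1),
  .both (nat_lit 119) (nat_lit 1),
  .both (nat_lit 67) (nat_lit 2),
  .both (nat_lit 78) (nat_lit 1),
  .both (nat_lit 85) (nat_lit 1),
  .both (nat_lit 113) (nat_lit 1),
  .both (nat_lit 126) (nat_lit 1),
  .both (nat_lit 67) (nat_lit 2),
  .both (nat_lit 78) (nat_lit 1),
  .both (nat_lit 85) (nat_lit 1),
  .both (nat_lit 145) (nat_lit 1),
  .both (nat_lit 92) (nat_lit 2),
  .both (nat_lit 119) (nat_lit 1),
  .both (nat_lit 33) (nat_lit 1),
  .both (nat_lit 126) (nat_lit 1),
  .both (nat_lit 161) (nat_lit 4),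
  .sym (nat_lit 0),
  .sym (nat_lit 2),
  .both (nat_lit 67) (nat_lit 2),
  .both (nat_lit 78) (nat_lit 1),
  .both (nat_lit 46) (nat_lit 1),
  .both (nat_lit 178) (nat_lit 2),
  .both (nat_lit 33) (nat_lit 1),
  .both (nat_lit 85) (nat_lit 1),
  .both (nat_lit 103) (nat_lit 2),
  .both (nat_lit 92) (nat_lit 2),
  .both (nat_lit 119) (nat_lit 1),
  .both (nat_lit 53) (nat_lit 1),
  .both (nat_lit 181) (nat_lit 2),
  .sym (nat_lit 6),
  .both (nat_lit 126) (nat_lit 1),
  .both (nat_lit 103) (nat_lit 2),
  .both (nat_lit 139) (nat_lit 1),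
  .both (nat_lit 151) (nat_lit 1),
  .both (nat_lit 33) (nat_lit 1),
  .both (nat_lit 14) (nat_lit 4),
  .both (nat_lit 67) (nat_lit 2),
  .both (nat_lit 33) (nat_lit 1),
  .both (nat_lit 163) (nat_lit 4),
  .both (nat_lit 113) (nat_lit 1),
  .both (nat_lit 126) (nat_lit 1),
  .both (nat_lit 67) (nat_lit 2),
  .both (nat_lit 78) (nat_lit 1),
  .both (nat_lit 85) (nat_lit 1),
  .both (nat_lit 103) (nat_lit 2),
  .both (nat_lit 119) (nat_lit 1),
  .both (nat_lit 67) (nat_lit 2),
  .both (nat_lit 92) (nat_lit 2),
  .both (nat_lit 78) (nat_lit 1),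
  .both (nat_lit 53) (nat_lit 1),
  .both (nat_lit 178) (nat_lit 2),
  .both (nat_lit 119) (nat_lit 1),
  .both (nat_lit 139) (nat_lit 1),
  .both (nat_lit 85) (nat_lit 1),
  .both (nat_lit 103) (nat_lit 2),
  .both (nat_lit 126) (nat_lit 1),
  .both (nat_lit 145) (nat_lit 1),
  .both (nat_lit 156) (nat_lit 1),
  .both (nat_lit 151) (nat_lit 1),
  .both (nat_lit 161) (nat_lit 4),
  .both (nat_lit 67) (nat_lit 2),
  .both (nat_lit 78) (nat_lit 1),
  .both (nat_lit 85) (nat_lit 1),
  .both (nat_lit 103) (nat_lit 2),
  .both (nat_lit 126) (nat_lit 1),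
  .both (nat_lit 332) (nat_lit 38),
  .sym (nat_lit 4),
  .both (nat_lit 133) (nat_lit 2),
  .both (nat_lit 162) (nat_lit 4),
  .both (nat_lit 78) (nat_lit 1),
  .both (nat_lit 85) (nat_lit 1),
  .both (nat_lit 67) (nat_lit 2),
  .both (nat_lit 33) (nat_lit 1),
  .both (nat_lit 39) (nat_lit 1),
  .both (nat_lit 46) (nat_lit 1),
  .both (nat_lit 33) (nat_lit 1),
  .both (nat_lit 119) (nat_lit 1),
  .both (nat_lit 126) (nat_lit 1),
  .both (nat_lit 92) (nat_lit 2),
  .both (nat_lit 78) (nat_lit 1),
  .both (nat_lit 139) (nat_lit 1),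
  .both (nat_lit 119) (nat_lit 1),
  .both (nat_lit 145) (nat_lit 1),
  .both (nat_lit 85) (nat_lit 1),
  .both (nat_lit 164) (nat_lit 4),
  .sym (nat_lit 2),
  .both (nat_lit 113) (nat_lit 1),
  .both (nat_lit 119) (nat_lit 1),
  .both (nat_lit 139) (nat_lit 1),
  .both (nat_lit 179) (nat_lit 2),
  .sym (nat_lit 6),
  .both (nat_lit 33) (nat_lit 1),
  .both (nat_lit 39) (nat_lit 1),
  .both (nat_lit 46) (nat_lit 1),
  .both (nat_lit 33) (nat_lit 1),
  .both (nat_lit 145) (nat_lit 1),
  .both (nat_lit 67) (nat_lit 2),
  .both (nat_lit 33) (nat_lit 1),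
  .both (nat_lit 39) (nat_lit 1),
  .both (nat_lit 33) (nat_lit 1),
  .both (nat_lit 46) (nat_lit 1),
  .both (nat_lit 39) (nat_lit 1),
  .both (nat_lit 33) (nat_lit 1),
  .both (nat_lit 46) (nat_lit 1),
  .both (nat_lit 33) (nat_lit 1),
  .both (nat_lit 78) (nat_lit 1),
  .both (nat_lit 85) (nat_lit 1),
  .both (nat_lit 67) (nat_lit 2),
  .both (nat_lit 92) (nat_lit 2),
  .both (nat_lit 119) (nat_lit 1),
  .both (nat_lit 139) (nat_lit 1),
  .both (nat_lit 103) (nat_lit 2),
  .both (nat_lit 126) (nat_lit 1),
  .both (nat_lit 145) (nat_lit 1),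
  .both (nat_lit 67) (nat_lit 2),
  .both (nat_lit 78) (nat_lit 1),
  .both (nat_lit 85) (nat_lit 1),
  .both (nat_lit 14) (nat_lit 4),
  .both (nat_lit 53) (nat_lit 1),
  .both (nat_lit 60) (nat_lit 1),
  .both (nat_lit 33) (nat_lit 1),
  .both (nat_lit 39) (nat_lit 1),
  .both (nat_lit 178) (nat_lit 2),
  .both (nat_lit 92) (nat_lit 2),
  .both (nat_lit 119) (nat_lit 1),
  .both (nat_lit 46) (nat_lit 1),
  .both (nat_lit 151) (nat_lit 1),
  .both (nat_lit 33) (nat_lit 1),
  .both (nat_lit 139) (nat_lit 1),
  .both (nat_lit 67) (nat_lit 2),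
  .both (nat_lit 78) (nat_lit 1),
  .both (nat_lit 85) (nat_lit 1),
  .both (nat_lit 151) (nat_lit 1),
  .both (nat_lit 162) (nat_lit 4),
  .both (nat_lit 78) (nat_lit 1),
  .both (nat_lit 133) (nat_lit 2),
  .both (nat_lit 113) (nat_lit 1),
  .both (nat_lit 275) (nat_lit 7),
  .sym (nat_lit 5),
  .sym (nat_lit 6)]

theorem run0 : sub K1 (runK B ns (ivT IVc 7) RT LT 410 111 st0 (treeK B ns [nat_lit 4, nat_lit 3, nat_lit 2,
    nat_lit 3, nat_lit 4, nat_lit 1, nat_lit 2, nat_lit 3, nat_lit 4, nat_lit 5, nat_lit 6, nat_lit 0,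
    nat_lit 1, nat_lit 2, nat_lit 3, nat_lit 4, nat_lit 5, nat_lit 6, nat_lit 0, nat_lit 1, nat_lit 2,
    nat_lit 3, nat_lit 4, nat_lit 5, nat_lit 6, nat_lit 0, nat_lit 1, nat_lit 2, nat_lit 3, nat_lit 4,
    nat_lit 5, nat_lit 6, nat_lit 0, nat_lit 1, nat_lit 2, nat_lit 3, nat_lit 4, nat_lit 5, nat_lit 1] 1 0))
    = true := by
  decide +kernel

def st1 : List Step := [.both (nat_lit 178) (nat_lit 2),
  .sym (nat_lit 0),
  .sym (nat_lit 5),
  .both (nat_lit 33) (nat_lit 1),
  .both (nat_lit 39) (nat_lit 1),
  .both (nat_lit 180) (nat_lit 2),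
  .sym (nat_lit 5),
  .sym (nat_lit 6),
  .both (nat_lit 46) (nat_lit 1),
  .both (nat_lit 151) (nat_lit 1),
  .both (nat_lit 156) (nat_lit 1),
  .both (nat_lit 14) (nat_lit 4),
  .both (nat_lit 33) (nat_lit 1),
  .both (nat_lit 53) (nat_lit 1),
  .both (nat_lit 39) (nat_lit 1),
  .both (nat_lit 46) (nat_lit 1),
  .both (nat_lit 180) (nat_lit 2),
  .sym (nat_lit 5),
  .both (nat_lit 67) (nat_lit 2),
  .both (nat_lit 92) (nat_lit 2),
  .both (nat_lit 119) (nat_lit 1),
  .both (nat_lit 139) (nat_lit 1),
  .both (nat_lit 103) (nat_lit 2),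
  .both (nat_lit 126) (nat_lit 1),
  .both (nat_lit 145) (nat_lit 1),
  .both (nat_lit 78) (nat_lit 1),
  .both (nat_lit 85) (nat_lit 1),
  .both (nat_lit 151) (nat_lit 1),
  .both (nat_lit 156) (nat_lit 1),
  .both (nat_lit 67) (nat_lit 2),
  .both (nat_lit 78) (nat_lit 1),
  .both (nat_lit 85) (nat_lit 1),
  .both (nat_lit 119) (nat_lit 1),
  .both (nat_lit 126) (nat_lit 1),
  .both (nat_lit 274) (nat_lit 7),
  .sym (nat_lit 6),
  .both (nat_lit 126) (nat_lit 1),
  .both (nat_lit 92) (nat_lit 2),
  .both (nat_lit 119) (nat_lit 1),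
  .both (nat_lit 162) (nat_lit 4),
  .sym (nat_lit 2),
  .both (nat_lit 113) (nat_lit 1),
  .both (nat_lit 78) (nat_lit 1),
  .both (nat_lit 145) (nat_lit 1),
  .both (nat_lit 133) (nat_lit 2),
  .both (nat_lit 199) (nat_lit 9),
  .sym (nat_lit 0),
  .both (nat_lit 60) (nat_lit 1),
  .both (nat_lit 39) (nat_lit 1),
  .both (nat_lit 46) (nat_lit 1),
  .both (nat_lit 178) (nat_lit 2),
  .sym (nat_lit 5),
  .both (nat_lit 33) (nat_lit 1),
  .both (nat_lit 119) (nat_lit 1),
  .both (nat_lit 39) (nat_lit 1),
  .both (nat_lit 78) (nat_lit 1),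
  .both (nat_lit 67) (nat_lit 2),
  .both (nat_lit 85) (nat_lit 1),
  .both (nat_lit 103) (nat_lit 2),
  .both (nat_lit 126) (nat_lit 1),
  .both (nat_lit 145) (nat_lit 1),
  .both (nat_lit 78) (nat_lit 1),
  .both (nat_lit 92) (nat_lit 2),
  .both (nat_lit 156) (nat_lit 1),
  .both (nat_lit 14) (nat_lit 4),
  .both (nat_lit 33) (nat_lit 1),
  .both (nat_lit 60) (nat_lit 1),
  .both (nat_lit 126) (nat_lit 1),
  .both (nat_lit 119) (nat_lit 1),
  .both (nat_lit 67) (nat_lit 2),
  .both (nat_lit 165) (nat_lit 4),
  .sym (nat_lit 2),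
  .both (nat_lit 113) (nat_lit 1),
  .both (nat_lit 119) (nat_lit 1),
  .both (nat_lit 139) (nat_lit 1),
  .both (nat_lit 67) (nat_lit 2),
  .both (nat_lit 78) (nat_lit 1),
  .both (nat_lit 85) (nat_lit 1),
  .both (nat_lit 92) (nat_lit 2),
  .both (nat_lit 126) (nat_lit 1),
  .both (nat_lit 119) (nat_lit 1),
  .both (nat_lit 33) (nat_lit 1),
  .both (nat_lit 39) (nat_lit 1),
  .both (nat_lit 46) (nat_lit 1),
  .both (nat_lit 33) (nat_lit 1),
  .both (nat_lit 151) (nat_lit 1),
  .both (nat_lit 139) (nat_lit 1),
  .both (nat_lit 53) (nat_lit 1),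
  .both (nat_lit 151) (nat_lit 1),
  .both (nat_lit 145) (nat_lit 1),
  .both (nat_lit 39) (nat_lit 1),
  .both (nat_lit 156) (nat_lit 1),
  .both (nat_lit 92) (nat_lit 2),
  .both (nat_lit 196) (nat_lit 9),
  .sym (nat_lit 0),
  .both (nat_lit 39) (nat_lit 1),
  .both (nat_lit 180) (nat_lit 2),
  .sym (nat_lit 5),
  .both (nat_lit 139) (nat_lit 1),
  .both (nat_lit 60) (nat_lit 1),
  .both (nat_lit 33) (nat_lit 1),
  .both (nat_lit 46) (nat_lit 1),
  .both (nat_lit 78) (nat_lit 1),
  .both (nat_lit 164) (nat_lit 4),
  .sym (nat_lit 3),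
  .both (nat_lit 33) (nat_lit 1),
  .both (nat_lit 53) (nat_lit 1),
  .both (nat_lit 180) (nat_lit 2),
  .sym (nat_lit 5),
  .both (nat_lit 119) (nat_lit 1),
  .both (nat_lit 113) (nat_lit 1),
  .both (nat_lit 67) (nat_lit 2),
  .both (nat_lit 78) (nat_lit 1),
  .both (nat_lit 85) (nat_lit 1),
  .both (nat_lit 92) (nat_lit 2),
  .both (nat_lit 103) (nat_lit 2),
  .both (nat_lit 126) (nat_lit 1),
  .both (nat_lit 145) (nat_lit 1),
  .both (nat_lit 39) (nat_lit 1),
  .both (nat_lit 46) (nat_lit 1),
  .both (nat_lit 67) (nat_lit 2),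
  .both (nat_lit 165) (nat_lit 4),
  .both (nat_lit 113) (nat_lit 1),
  .both (nat_lit 78) (nat_lit 1),
  .both (nat_lit 139) (nat_lit 1),
  .both (nat_lit 151) (nat_lit 1),
  .both (nat_lit 275) (nat_lit 7),
  .sym (nat_lit 5),
  .both (nat_lit 178) (nat_lit 2),
  .sym (nat_lit 0),
  .both (nat_lit 33) (nat_lit 1),
  .both (nat_lit 67) (nat_lit 2),
  .both (nat_lit 78) (nat_lit 1),
  .both (nat_lit 92) (nat_lit 2),
  .both (nat_lit 103) (nat_lit 2),
  .both (nat_lit 178) (nat_lit 2),
  .sym (nat_lit 0),
  .sym (nat_lit 5),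
  .both (nat_lit 151) (nat_lit 1),
  .both (nat_lit 181) (nat_lit 2),
  .both (nat_lit 126) (nat_lit 1),
  .both (nat_lit 178) (nat_lit 2),
  .sym (nat_lit 0),
  .sym (nat_lit 5),
  .both (nat_lit 145) (nat_lit 1),
  .both (nat_lit 39) (nat_lit 1),
  .both (nat_lit 53) (nat_lit 1),
  .both (nat_lit 85) (nat_lit 1),
  .both (nat_lit 156) (nat_lit 1),
  .both (nat_lit 133) (nat_lit 2),
  .both (nat_lit 161) (nat_lit 4),
  .sym (nat_lit 0),
  .both (nat_lit 46) (nat_lit 1),
  .both (nat_lit 60) (nat_lit 1),
  .both (nat_lit 39) (nat_lit 1),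
  .both (nat_lit 53) (nat_lit 1),
  .both (nat_lit 39) (nat_lit 1),
  .both (nat_lit 46) (nat_lit 1),
  .both (nat_lit 14) (nat_lit 4),
  .both (nat_lit 33) (nat_lit 1),
  .both (nat_lit 39) (nat_lit 1),
  .both (nat_lit 53) (nat_lit 1),
  .both (nat_lit 14) (nat_lit 4),
  .both (nat_lit 60) (nat_lit 1),
  .both (nat_lit 33) (nat_lit 1),
  .both (nat_lit 178) (nat_lit 2),
  .sym (nat_lit 5),
  .both (nat_lit 165) (nat_lit 4),
  .sym (nat_lit 3),
  .both (nat_lit 78) (nat_lit 1),
  .both (nat_lit 145) (nat_lit 1),
  .both (nat_lit 199) (nat_lit 9),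
  .sym (nat_lit 0),
  .both (nat_lit 39) (nat_lit 1),
  .both (nat_lit 60) (nat_lit 1),
  .both (nat_lit 46) (nat_lit 1),
  .both (nat_lit 178) (nat_lit 2),
  .both (nat_lit 33) (nat_lit 1),
  .both (nat_lit 119) (nat_lit 1),
  .both (nat_lit 78) (nat_lit 1),
  .both (nat_lit 67) (nat_lit 2),
  .both (nat_lit 126) (nat_lit 1),
  .both (nat_lit 113) (nat_lit 1),
  .both (nat_lit 67) (nat_lit 2),
  .both (nat_lit 103) (nat_lit 2),
  .both (nat_lit 126) (nat_lit 1),
  .both (nat_lit 145) (nat_lit 1),
  .both (nat_lit 156) (nat_lit 1),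
  .both (nat_lit 178) (nat_lit 2),
  .sym (nat_lit 0),
  .sym (nat_lit 5),
  .both (nat_lit 60) (nat_lit 1),
  .both (nat_lit 92) (nat_lit 2),
  .both (nat_lit 161) (nat_lit 4),
  .sym (nat_lit 0),
  .both (nat_lit 46) (nat_lit 1),
  .both (nat_lit 165) (nat_lit 4),
  .sym (nat_lit 2),
  .both (nat_lit 126) (nat_lit 1),
  .both (nat_lit 139) (nat_lit 1),
  .both (nat_lit 145) (nat_lit 1),
  .both (nat_lit 151) (nat_lit 1),
  .both (nat_lit 196) (nat_lit 9),
  .sym (nat_lit 5),
  .both (nat_lit 92) (nat_lit 2),
  .both (nat_lit 180) (nat_lit 2),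
  .sym (nat_lit 5),
  .both (nat_lit 139) (nat_lit 1),
  .both (nat_lit 119) (nat_lit 1),
  .both (nat_lit 139) (nat_lit 1),
  .both (nat_lit 151) (nat_lit 1),
  .both (nat_lit 119) (nat_lit 1),
  .both (nat_lit 139) (nat_lit 1),
  .both (nat_lit 92) (nat_lit 2),
  .both (nat_lit 178) (nat_lit 2),
  .sym (nat_lit 0),
  .sym (nat_lit 5),
  .both (nat_lit 33) (nat_lit 1),
  .both (nat_lit 39) (nat_lit 1),
  .both (nat_lit 46) (nat_lit 1),
  .both (nat_lit 33) (nat_lit 1),
  .both (nat_lit 119) (nat_lit 1),
  .both (nat_lit 139) (nat_lit 1),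
  .both (nat_lit 92) (nat_lit 2),
  .both (nat_lit 178) (nat_lit 2),
  .sym (nat_lit 0),
  .both (nat_lit 33) (nat_lit 1),
  .both (nat_lit 119) (nat_lit 1),
  .both (nat_lit 14) (nat_lit 4),
  .both (nat_lit 33) (nat_lit 1),
  .both (nat_lit 39) (nat_lit 1),
  .both (nat_lit 53) (nat_lit 1),
  .both (nat_lit 119) (nat_lit 1),
  .both (nat_lit 92) (nat_lit 2),
  .both (nat_lit 103) (nat_lit 2),
  .both (nat_lit 126) (nat_lit 1),
  .both (nat_lit 145) (nat_lit 1),
  .both (nat_lit 178) (nat_lit 2),
  .sym (nat_lit 0),
  .sym (nat_lit 5),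
  .both (nat_lit 33) (nat_lit 1),
  .both (nat_lit 39) (nat_lit 1),
  .both (nat_lit 46) (nat_lit 1),
  .both (nat_lit 14) (nat_lit 4),
  .both (nat_lit 33) (nat_lit 1),
  .both (nat_lit 39) (nat_lit 1),
  .both (nat_lit 67) (nat_lit 2),
  .both (nat_lit 119) (nat_lit 1),
  .both (nat_lit 53) (nat_lit 1),
  .both (nat_lit 139) (nat_lit 1),
  .both (nat_lit 151) (nat_lit 1),
  .both (nat_lit 119) (nat_lit 1),
  .both (nat_lit 181) (nat_lit 2),
  .sym (nat_lit 6),
  .both (nat_lit 92) (nat_lit 2),
  .both (nat_lit 53) (nat_lit 1),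
  .both (nat_lit 166) (nat_lit 4),
  .sym (nat_lit 2),
  .sym (nat_lit 3),
  .both (nat_lit 139) (nat_lit 1),
  .both (nat_lit 145) (nat_lit 1),
  .both (nat_lit 180) (nat_lit 2),
  .sym (nat_lit 5),
  .both (nat_lit 151) (nat_lit 1),
  .both (nat_lit 139) (nat_lit 1),
  .both (nat_lit 119) (nat_lit 1),
  .both (nat_lit 178) (nat_lit 2),
  .sym (nat_lit 0),
  .both (nat_lit 92) (nat_lit 2),
  .both (nat_lit 139) (nat_lit 1),
  .both (nat_lit 151) (nat_lit 1),
  .both (nat_lit 156) (nat_lit 1),
  .both (nat_lit 67) (nat_lit 2),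
  .both (nat_lit 78) (nat_lit 1),
  .both (nat_lit 103) (nat_lit 2),
  .both (nat_lit 126) (nat_lit 1),
  .both (nat_lit 145) (nat_lit 1),
  .both (nat_lit 156) (nat_lit 1),
  .both (nat_lit 85) (nat_lit 1),
  .both (nat_lit 67) (nat_lit 2),
  .both (nat_lit 92) (nat_lit 2),
  .both (nat_lit 119) (nat_lit 1),
  .both (nat_lit 53) (nat_lit 1),
  .both (nat_lit 39) (nat_lit 1),
  .both (nat_lit 161) (nat_lit 4),
  .sym (nat_lit 0),
  .sym (nat_lit 2),
  .both (nat_lit 53) (nat_lit 1),
  .both (nat_lit 113) (nat_lit 1),
  .both (nat_lit 33) (nat_lit 1),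
  .both (nat_lit 60) (nat_lit 1),
  .both (nat_lit 119) (nat_lit 1),
  .both (nat_lit 92) (nat_lit 2),
  .both (nat_lit 67) (nat_lit 2),
  .both (nat_lit 78) (nat_lit 1),
  .both (nat_lit 103) (nat_lit 2),
  .both (nat_lit 85) (nat_lit 1),
  .both (nat_lit 92) (nat_lit 2),
  .both (nat_lit 67) (nat_lit 2),
  .both (nat_lit 126) (nat_lit 1),
  .both (nat_lit 161) (nat_lit 4),
  .sym (nat_lit 0),
  .sym (nat_lit 2),
  .both (nat_lit 46) (nat_lit 1),
  .both (nat_lit 39) (nat_lit 1),
  .both (nat_lit 53) (nat_lit 1),
  .both (nat_lit 119) (nat_lit 1),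
  .both (nat_lit 139) (nat_lit 1),
  .both (nat_lit 151) (nat_lit 1),
  .both (nat_lit 119) (nat_lit 1),
  .both (nat_lit 92) (nat_lit 2),
  .both (nat_lit 139) (nat_lit 1),
  .both (nat_lit 53) (nat_lit 1),
  .both (nat_lit 33) (nat_lit 1),
  .both (nat_lit 39) (nat_lit 1),
  .both (nat_lit 46) (nat_lit 1),
  .both (nat_lit 33) (nat_lit 1),
  .both (nat_lit 60) (nat_lit 1),
  .both (nat_lit 39) (nat_lit 1),
  .both (nat_lit 53) (nat_lit 1),
  .both (nat_lit 46) (nat_lit 1),
  .both (nat_lit 78) (nat_lit 1),
  .both (nat_lit 145) (nat_lit 1),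
  .both (nat_lit 67) (nat_lit 2),
  .both (nat_lit 126) (nat_lit 1),
  .both (nat_lit 119) (nat_lit 1),
  .both (nat_lit 156) (nat_lit 1),
  .both (nat_lit 60) (nat_lit 1),
  .both (nat_lit 78) (nat_lit 1),
  .both (nat_lit 139) (nat_lit 1),
  .both (nat_lit 39) (nat_lit 1),
  .both (nat_lit 33) (nat_lit 1),
  .both (nat_lit 53) (nat_lit 1),
  .both (nat_lit 119) (nat_lit 1),
  .both (nat_lit 145) (nat_lit 1),
  .both (nat_lit 103) (nat_lit 2),
  .both (nat_lit 139) (nat_lit 1),
  .both (nat_lit 113) (nat_lit 1),
  .both (nat_lit 133) (nat_lit 2),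
  .both (nat_lit 46) (nat_lit 1),
  .both (nat_lit 178) (nat_lit 2),
  .sym (nat_lit 0),
  .sym (nat_lit 5),
  .both (nat_lit 139) (nat_lit 1),
  .both (nat_lit 39) (nat_lit 1),
  .both (nat_lit 46) (nat_lit 1),
  .both (nat_lit 85) (nat_lit 1),
  .both (nat_lit 67) (nat_lit 2),
  .both (nat_lit 78) (nat_lit 1),
  .both (nat_lit 85) (nat_lit 1),
  .both (nat_lit 14) (nat_lit 4),
  .both (nat_lit 33) (nat_lit 1),
  .both (nat_lit 60) (nat_lit 1),
  .both (nat_lit 39) (nat_lit 1),
  .both (nat_lit 113) (nat_lit 1),
  .both (nat_lit 178) (nat_lit 2),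
  .both (nat_lit 78) (nat_lit 1),
  .both (nat_lit 46) (nat_lit 1),
  .both (nat_lit 163) (nat_lit 4),
  .sym (nat_lit 2),
  .both (nat_lit 113) (nat_lit 1),
  .both (nat_lit 67) (nat_lit 2),
  .both (nat_lit 103) (nat_lit 2),
  .both (nat_lit 145) (nat_lit 1),
  .both (nat_lit 156) (nat_lit 1),
  .both (nat_lit 196) (nat_lit 9),
  .both (nat_lit 139) (nat_lit 1),
  .both (nat_lit 119) (nat_lit 1),
  .loc (nat_lit
    0x1d80002fd00000002fd0001d8000000600b0002f700ff00600c0002f7000500017700600d000600600d00600b000000600c00600b000100600b00600700050060070060090006006009006005000600600400600700000060070000960001006005006005000500600500600200000060040060020006000096006002000100600200600000050060000060000006006000000049)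
    [nat_lit 17, nat_lit 18] [nat_lit 0, nat_lit 0x1000000000002000400b5, nat_lit 0, nat_lit
    0x500010000000000000005006a, nat_lit 0, nat_lit 0, nat_lit 0xb000500030006000c0005005e, nat_lit 0,
    nat_lit 0xf0007000a0003003f, nat_lit 0, nat_lit 0x13000b000a0011000400b5, nat_lit 0, nat_lit 0, nat_lit
    0, nat_lit 0x1b001700150013000d000b00080000000000000000000000000000000e0114, nat_lit
    0x1d001b001a000500bc, nat_lit 0x20001900020001, nat_lit 0x1000180021000000090018, nat_lit 0x2300010001],
  .both (nat_lit 39) (nat_lit 1),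
  .both (nat_lit 46) (nat_lit 1),
  .both (nat_lit 33) (nat_lit 1),
  .both (nat_lit 39) (nat_lit 1),
  .both (nat_lit 181) (nat_lit 2),
  .sym (nat_lit 6),
  .both (nat_lit 33) (nat_lit 1),
  .both (nat_lit 46) (nat_lit 1),
  .both (nat_lit 126) (nat_lit 1),
  .both (nat_lit 156) (nat_lit 1),
  .both (nat_lit 39) (nat_lit 1),
  .both (nat_lit 46) (nat_lit 1),
  .both (nat_lit 33) (nat_lit 1),
  .both (nat_lit 181) (nat_lit 2),
  .sym (nat_lit 6),
  .both (nat_lit 103) (nat_lit 2),
  .both (nat_lit 60) (nat_lit 1),
  .both (nat_lit 126) (nat_lit 1),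
  .both (nat_lit 145) (nat_lit 1),
  .both (nat_lit 156) (nat_lit 1),
  .both (nat_lit 162) (nat_lit 4),
  .loc (nat_lit 0x200135b00135b00010060000060000002001c260060000005006000000a36) [nat_lit 3] [nat_lit 0,
    nat_lit 0x10000000000030079, nat_lit 0x100000000000000020005005e, nat_lit 0x300050004000000050048],
  .both (nat_lit 113) (nat_lit 1),
  .loc (nat_lit
    0xa4f000a4f000100605b00605b000200605200605b000000605900605b000500605b0060500005006056006059000600605900604f000200604b00605600000060500060560006006056006049000500046200605400020060540060460001000164006052000500605200603500020060350060500006006050006034000500604f006034000100604b006046000300603600604b000000603500604b000600604b0060320000006034006049000200604900603200050002d4006046000300603d00604600000060460003bf0001006035006043000500025c006043000600604300602500000002d30060410005006041006025000100603d006036000600603d00603d00050001d800603d000000603d00026e000100602b00603b000600603b0060200005006036006039000600603900601f0005006020006037000100603700601f000600603600601e000600603500601c000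200603400601c000300601e006032000000603200601c000100601b00602300ff00602300602c000100602d006027000500602b00602d000600602d00601b000100602c00601b000600602b006019000500601b006029000000602900601900060060170060270005006027006016000000045f00602500010060250060140005006021006023000600602300601300060001160060210000006021006011000100602000600f000500601f00600e000000601e00600e000300600e00601c000100601c00600c000000601b0000780005000078006019000100601900600b0001006013006017000500601700004b000000601600004b000600600c006014000000601400010400050060130000980006000098006011000100601100600a000600600b00600f000500600f006009000100600e006009000300600900600c000000600c006006000500600b000096000600600a0000770000006009006004000600010400600600030060040060060001006006006002000600009600600400010060040060000003006000006002000600600200008a00050060000060000006006000000049)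
    [nat_lit 95] [nat_lit 0, nat_lit 0x1000000000002000400b5, nat_lit 0, nat_lit 0x50000000200030093, nat_lit
    0, nat_lit 0x900010000000000000005006a, nat_lit 0, nat_lit 0xd0008000a00030051, nat_lit
    0xd00050000000000000005006a, nat_lit 0, nat_lit 0, nat_lit 0, nat_lit 0, nat_lit 0x19001000140003002a,
    nat_lit 0, nat_lit 0, nat_lit 0x1f0013000c0018000400b4, nat_lit 0, nat_lit 0x2300150000000000000005006a,
    nat_lit 0, nat_lit 0, nat_lit 0x290011001a0003003f, nat_lit 0, nat_lit 0, nat_lit
    0x2f00000000000000280005005e, nat_lit 0, nat_lit 0x3300170000000000000005005f, nat_lit 0, nat_lit 0,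
    nat_lit 0x39001c001e00030051, nat_lit 0, nat_lit 0, nat_lit 0, nat_lit 0, nat_lit 0x43002600000003003f,
    nat_lit 0, nat_lit 0x47002700000045000400b5, nat_lit 0, nat_lit
    0x4b0029000000000000000000000000000000090010, nat_lit 0, nat_lit 0x4f002d00000030000400b4, nat_lit 0,
    nat_lit 0x530036003800030038, nat_lit 0, nat_lit 0, nat_lit 0, nat_lit 0x5b005500530058000400b5, nat_lit
    0x52002f000000000000000000020003000a000c001800340058005d000e0130, nat_lit
    0x59005c005f0052003200480006006c, nat_lit 0x61005900020003, nat_lit 0, nat_lit 0x65003c003e0003002a,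
    nat_lit 0, nat_lit 0, nat_lit 0, nat_lit 0, nat_lit 0x6f003f001d002000420005005f, nat_lit 0, nat_lit
    0x73003f003e006e000400b5, nat_lit 0, nat_lit 0x77004100220034005800050069, nat_lit 0, nat_lit
    0x7b0000000000030038, nat_lit 0x7b0000007c0003003f, nat_lit
    0x750073007000720078007a005d005b0063004a00460000007d007f000e0121, nat_lit 0, nat_lit
    0x83004e000000030037, nat_lit 0, nat_lit 0x87008400860000000400b5, nat_lit 0x87004b002c003a006c00050069,
    nat_lit 0, nat_lit 0x8d0000007c0003002a, nat_lit 0x8d0000000000030038, nat_lit 0, nat_lit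
    0x930065006a00030023, nat_lit 0, nat_lit 0x970065006c0003003e, nat_lit 0x970068006e00030093, nat_lit
    0x900081009b00030052, nat_lit 0, nat_lit 0, nat_lit 0xa10069006c00030080, nat_lit 0, nat_lit
    0xa5008b008a000000000005005e, nat_lit 0, nat_lit 0xa9009200000003007a, nat_lit 0, nat_lit
    0xad009600a20003003e, nat_lit 0xad0093009800030080, nat_lit 0, nat_lit 0xb3009f009500ae000400b5, nat_lit
    0, nat_lit 0xb700af00b500030037, nat_lit 0xb700a400a600030079, nat_lit 0xbc00a8000000a700bb00050049,
    nat_lit 0xab00a9009e009a00a600bb00bd00ba00b600b2009d008d000000000000001300f8],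
  .both (nat_lit 33) (nat_lit 1),
  .both (nat_lit 39) (nat_lit 1),
  .both (nat_lit 46) (nat_lit 1),
  .both (nat_lit 39) (nat_lit 1),
  .both (nat_lit 33) (nat_lit 1),
  .both (nat_lit 39) (nat_lit 1),
  .both (nat_lit 46) (nat_lit 1),
  .both (nat_lit 161) (nat_lit 4),
  .both (nat_lit 113) (nat_lit 1),
  .loc (nat_lit
    0x60004a60002f900060002f90004a600ff0004a600605e000100606000605a0002006063006060000500605c00606300010060630060530006006056006061000500606100013c000500606000604a00060002f900605e000100605e00604a000200604a00605c000600605c00013a00050002fe00605a000200605a0060460006006050006058000500605800603900000001520060560001006056006039000200603700605300000060390060530006006053006034000100605000605000020060360060500005006050006034000200601e00604e000500604e0001d9000100603600604b000200604b00604b000600604b0000c9000600604a0002090001006046006037000600604600604600050001d8006046000000604600026e000100602c006044000600604400601b000100603d00601e00010000cd00603f000600603600603f000000603d00603f000500603f00601a000500603700603d000600603d00601900050060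1b00603b000100603b006019000200601a0060390006006039006018000000601a0060370006006037006017000500603600601700000060180060340002006034006017000100601600602000ff00602000602d000100602e006022000500602c00602e00000000d600602e000600602e006016000100602d006016000600602c006014000500601600602a000000602a006014000100601a0060270005000177006027000600602700601200000001d4006025000500602500601200060060100060220000006010006022000500602200600f000500601c006020000600602000600e000000600e00601e000500601e000116000600011600601c000000601c00600c000100601b00600a000600601a00600900050060190060090002006018006009000000601700600900000060160000780005000078006014000100601400600800000002f70060120001006012006006000100600e006010000500601000004b000000600f00004b000500600e000098000600009800600c000100600c006005000600600800600a000500600a0060040001006009006004000500600800009600060060040060060000006006000096000600600500007700000060040060020006000096006002000100600200600000050060000060000006006000000049)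
    [nat_lit 104, nat_lit 105] [nat_lit 0, nat_lit 0x1000000000002000400b5, nat_lit 0, nat_lit
    0x500010000000000000005006a, nat_lit 0, nat_lit 0, nat_lit 0, nat_lit 0xd0007000a0003003f, nat_lit 0,
    nat_lit 0, nat_lit 0, nat_lit 0x15000900080012000400b4, nat_lit 0, nat_lit 0x19000b0000000000000005006a,
    nat_lit 0, nat_lit 0, nat_lit 0, nat_lit 0x21000000000000001e0005005e, nat_lit 0, nat_lit
    0x25000d000000000000000000000000000000090010, nat_lit 0, nat_lit 0x2900110000000000000005005f, nat_lit 0,
    nat_lit 0, nat_lit 0, nat_lit 0, nat_lit 0, nat_lit 0, nat_lit 0, nat_lit 0x39001c00000003003f, nat_lit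
    0, nat_lit 0x3d0000001e00030037, nat_lit 0, nat_lit 0x41001d0000003b000400b5, nat_lit 0, nat_lit
    0x45001f002200030037, nat_lit 0x45001f00000022000400b4, nat_lit 0, nat_lit 0x4b0028000000030037, nat_lit
    0, nat_lit 0x4f004c004e0000000400b5, nat_lit 0x4f002500100014003600050069, nat_lit 0, nat_lit
    0x55002c002e00030038, nat_lit 0, nat_lit 0, nat_lit 0, nat_lit 0x5d002d00000003003e, nat_lit
    0x5d00570055005a000400b5, nat_lit 0x4a0021000000000000000000020003000600080012002a005a0061000e0130,
    nat_lit 0x5b005e0063004a002400420006006c, nat_lit 0x65005b00020003, nat_lit 0, nat_lit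
    0x69002f003200030023, nat_lit 0, nat_lit 0, nat_lit 0x6f002f00360003003e, nat_lit 0, nat_lit
    0x730031003600030080, nat_lit 0, nat_lit 0x7700330013001600380005005f, nat_lit 0, nat_lit
    0x7b003300300070000400b5, nat_lit 0, nat_lit 0x7f0071007d00030037, nat_lit 0x7f0071006f006e000400b4,
    nat_lit 0x7f00530052000000000005005e, nat_lit 0x400023004700640060000000000085008200090017, nat_lit 0,
    nat_lit 0x8900370018002a005a00050069, nat_lit 0, nat_lit 0x8d0000000000030038, nat_lit
    0x8d0000008e0003003f, nat_lit 0x7d007b0078007a008a008c0061005d00670044003c0000008f0091000e0121, nat_lit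
    0, nat_lit 0, nat_lit 0x970000009800030080, nat_lit 0x97000000000085008400050069, nat_lit 0, nat_lit
    0x9d0000003e00030079, nat_lit 0, nat_lit 0xa10069006e00030079, nat_lit 0xa4009b0099009c00a300050049,
    nat_lit 0, nat_lit 0xa7006c00740003003e, nat_lit 0xa70069007000030080, nat_lit 0, nat_lit
    0xad0076008000820087009f009d000000000000000000000000000000000000000000000000001300c8, nat_lit 0, nat_lit
    0xb100a900a700a2000400b4, nat_lit 0, nat_lit 0xb5009000000003007a, nat_lit 0, nat_lit
    0xb90000009600030080, nat_lit 0, nat_lit 0xbd00950000000000000005006a, nat_lit 0, nat_lit 0, nat_lit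
    0xc30000000000af000400b6, nat_lit 0, nat_lit
    0xc700a700a200a500b300b100ae00c500c3000000000000000000ba000e0131, nat_lit 0xc100bb00c90003007b, nat_lit
    0xb5009300ab00c800cb00050049, nat_lit 0xbd00c200cd00b80000000000060061, nat_lit 0xcf00c00002000d, nat_lit
    0xd10001000d],
  .both (nat_lit 126) (nat_lit 1),
  .both (nat_lit 145) (nat_lit 1),
  .both (nat_lit 156) (nat_lit 1),
  .both (nat_lit 145) (nat_lit 1),
  .both (nat_lit 126) (nat_lit 1),
  .loc (nat_lit
    0x10003900003870001000387000390000000604700014e0005006043006047000100604700603d000600603f006045000500604500013c0000000233006043000600604300013a000600603a006041000500604100602c000000015200603f000100603f00602c000000602c00603d000600603d006027000100603a00603a000200602900603a000500603a006027000200601600603800050060380001d90001006029006035000200603500603500060060350000c9000100602e00601600010000cd0060300006006029006030000000602e0060300005006030006015000500602a00602e000600602e006014000200601500602c000600602c006013000000601500602a000600602a0060120005006029006012000000601300602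700020060270060120001006023006018000500602200602300000000d60060230006006023006011000600602200600f0005006011006020000000602000600f000100601500601d000500017700601d000600601d00600d00000001d400601b000500601b00600d000600600b006018000000600b006018000500601800600a0000006009006016000500601600011600060060150060080005006014006008000200601300600800000060120060080000006011000078000500007800600f000100600f00600700000002f700600d000100600d006005000100600900600b000500600b00004b000000600a00004b0005006009000098000100600800600400050060070000960006006004006005000000600500009600000060040060020006000096006002000100600200600000050060000060000006006000000049)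
    [nat_lit 74, nat_lit 75] [nat_lit 0, nat_lit 0x1000000000002000400b5, nat_lit 0, nat_lit
    0x500010000000000000005006a, nat_lit 0, nat_lit 0, nat_lit 0xb0007000a0003003f, nat_lit 0, nat_lit 0,
    nat_lit 0, nat_lit 0, nat_lit 0, nat_lit 0x1700000000000000140005005e, nat_lit 0, nat_lit
    0x1b000b000000000000000000000000000000090010, nat_lit 0, nat_lit 0x1f000f0000000000000005005f, nat_lit 0,
    nat_lit 0, nat_lit 0, nat_lit 0, nat_lit 0, nat_lit 0, nat_lit 0x2d0000001400030037, nat_lit 0, nat_lit
    0x310015001800030037, nat_lit 0x31001500000018000400b4, nat_lit 0, nat_lit 0x37001e000000030037, nat_lit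
    0, nat_lit 0x3b0038003a0000000400b5, nat_lit 0x3b001b000e0012002c00050069, nat_lit 0, nat_lit
    0x410022002400030038, nat_lit 0, nat_lit 0, nat_lit 0x47002300000003003e, nat_lit
    0x47004300410046000400b5, nat_lit 0x36001700000000000000000002000300060008001000200046004b000e0130,
    nat_lit 0, nat_lit 0x4f0025002800030023, nat_lit 0, nat_lit 0, nat_lit 0x550025002c0003003e, nat_lit 0,
    nat_lit 0x590027002c00030080, nat_lit 0, nat_lit 0x5d002900260056000400b5, nat_lit 0, nat_lit
    0x610057005f00030037, nat_lit 0x61005700550054000400b4, nat_lit 0x61003f003e000000000005005e, nat_lit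
    0x3000190033004e004a000000000067006400090017, nat_lit 0, nat_lit 0x6b0000006c00030080, nat_lit
    0x6b000000000067006600050069, nat_lit 0, nat_lit 0x710000002e00030079, nat_lit 0, nat_lit
    0x75004f005400030079, nat_lit 0x78006f006d0070007700050049, nat_lit 0, nat_lit 0x7b0052005a0003003e,
    nat_lit 0, nat_lit 0x7f005c00620064006900730071000000000000000000000000000000000000000000000000001300c8,
    nat_lit 0, nat_lit 0x83007d007b0076000400b4, nat_lit 0, nat_lit 0x87000000000003003e, nat_lit 0, nat_lit
    0x8b000000000081000400b6, nat_lit 0, nat_lit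
    0x8f007b00760079008500830080008d008b00000000000000000088000e0131, nat_lit 0x89009100030039, nat_lit
    0x81007f007d009000930000000000090017, nat_lit 0x9500010003],
  .both (nat_lit 78) (nat_lit 1),
  .both (nat_lit 85) (nat_lit 1),
  .both (nat_lit 78) (nat_lit 1),
  .both (nat_lit 67) (nat_lit 2),
  .loc (nat_lit
    0x502000502000000604f000345000200034500605c000600605c00605a000000605200605c000100605c00604c000200023700605a000500605a00020b000600020b0060570005006052006057000100605700604b00000060540001f900020001f90060540001006054006047000200604f0060520001006052006042000500604b0060500001006050006040000100604f00603a000600604500604d000500604d00013c000000604c00013c000600604b00013a000600603d00604700020060320060470000006042006047000500604700602e0000000152006045000100604500602e00050060400060420002006030006042000600604200602c000000602e0060400006006040006027000100603d00603d000200602900603d000500603d006027000200601600603a00000001d700603a000500603a0001d90001006029006037000200603700603700060060370000c9000100603000601600010000cd006032000600602900603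200000060300060320005006032006015000500602a0060300006006030006014000200601500602e000600602e006013000200601400602c000500602c006013000000601500602a000600602a0060120005006029006012000000601300602700020060270060120001006023006018000500602200602300000000d60060230006006023006011000600602200600f0005006011006020000000602000600f000100601500601d000500017700601d000600601d00600d00000001d400601b000500601b00600d000600600b006018000000600b006018000500601800600a0000006009006016000500601600011600060060150060080005006014006008000200601300600800000060120060080000006011000078000500007800600f000100600f00600700000002f700600d000100600d006005000100600900600b000500600b00004b000000600a00004b0005006009000098000100600800600400050060070000960006006004006005000000600500009600000060040060020006000096006002000100600200600000050060000060000006006000000049)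
    [nat_lit 97] [nat_lit 0, nat_lit 0x1000000000002000400b5, nat_lit 0, nat_lit 0x500010000000000000005006a,
    nat_lit 0, nat_lit 0, nat_lit 0xb0007000a0003003f, nat_lit 0, nat_lit 0, nat_lit 0, nat_lit 0, nat_lit 0,
    nat_lit 0x1700000000000000140005005e, nat_lit 0, nat_lit 0x1b000b000000000000000000000000000000090010,
    nat_lit 0, nat_lit 0x1f000f0000000000000005005f, nat_lit 0, nat_lit 0, nat_lit 0, nat_lit 0, nat_lit 0,
    nat_lit 0, nat_lit 0x2d0000001400030037, nat_lit 0, nat_lit 0x310015001800030037, nat_lit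
    0x31001500000018000400b4, nat_lit 0, nat_lit 0x37001e000000030037, nat_lit 0, nat_lit
    0x3b0038003a0000000400b5, nat_lit 0x3b001b000e0012002c00050069, nat_lit 0, nat_lit 0x410022002400030038,
    nat_lit 0, nat_lit 0, nat_lit 0x47002300000003003e, nat_lit 0x47004300410046000400b5, nat_lit
    0x36001700000000000000000002000300060008001000200046004b000e0130, nat_lit 0, nat_lit
    0x4f0025002800030023, nat_lit 0, nat_lit 0, nat_lit 0x550025002c0003003e, nat_lit 0, nat_lit
    0x590027002a00030079, nat_lit 0, nat_lit 0x5d0027002c00030080, nat_lit 0, nat_lit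
    0x61002900260056000400b5, nat_lit 0, nat_lit 0x650057006300030037, nat_lit 0x65005700550054000400b4,
    nat_lit 0x65003f003e000000000005005e, nat_lit 0x3000190033004e004a00000000006b006800090017, nat_lit 0,
    nat_lit 0x6f0000007000030080, nat_lit 0x6f00000000006b006a00050069, nat_lit 0, nat_lit
    0x750000000000030037, nat_lit 0x750000002e00030079, nat_lit 0, nat_lit 0x7b004f005400030079, nat_lit
    0x7e007300710074007d00050049, nat_lit 0, nat_lit 0x810052005e0003003e, nat_lit 0, nat_lit
    0x85005c006200030080, nat_lit 0x85005900510082000400b5, nat_lit 0, nat_lit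
    0x8b006000660068006d00790075000000000000000000000000000000000000000000000000001300c8, nat_lit 0, nat_lit
    0x8f0083008900030037, nat_lit 0x8f0060006600030079, nat_lit 0x8f00830081007c000400b4, nat_lit 0, nat_lit
    0, nat_lit 0, nat_lit 0x9b00000000008d000400b6, nat_lit 0, nat_lit 0, nat_lit
    0xa10081007c007f0095008f008c009d009b00000000000000000098000e0131, nat_lit 0, nat_lit
    0xa50088006d007900a000050046, nat_lit 0, nat_lit 0xa90094006c0000000000050046, nat_lit 0xab000800aa,
    nat_lit 0, nat_lit 0xaf00a300a1008900a60005005f, nat_lit 0xaf00970000000000000005006a, nat_lit 0, nat_lit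
    0xb50000000000030079, nat_lit 0, nat_lit 0xb9009900000000000000ae00a9009200a600090010, nat_lit
    0xb500b300b200bb000400b6, nat_lit 0xbd00b8000000030080, nat_lit 0xbf00bc00a800030023, nat_lit
    0xc2009f00780000007700a000c1000000090018],
  .both (nat_lit 39) (nat_lit 1),
  .both (nat_lit 46) (nat_lit 1),
  .both (nat_lit 39) (nat_lit 1),
  .loc (nat_lit
    0x2000f83000f830000006052000407000000029700604400ff00605f00604400ff000297006055000000605100604e00ff00606200604e00ff00605100605c000000605a006063000500606300605100000060620060510002006051006060000100606000604f000000605f000297000500604f00605d000200605d0000af000000605c00604e000500604e00605a000100605a0060480002000390006047000600604700039100060003a10060560001006056006045000000605500604400020004070060520004006044006052000100605200604200010060510000f4000000604f00604f000200604f0000f3000100604e00603c000500604500604c000600604c006036000500603700604a000100604a006036000200603600604800050060480060340001006047006033000600603300604500000060450001a5000100604400602c000400602c006042000200604200602400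0100603e006024000400602100603e000200028d00603e000600603e00601e000000019400603c000500603c00601d0005000194006039000000601d006039000200603900601b000600603700603700010060370060190005006036006017000100601d00603400020060340060170000006033006017000100601100602100ff00602100602b000100602e006026000500602a00602e000600602e00601100000000e600602c000200602c006011000100602b006011000600602a00600f0005006011006028000000602800600f000600600d006026000500602600600c000400601100602400000060240000e1000500601b0060210002000194006021000600602100600a000400600a00601e00020002f200601e000500601e000111000200601d006008000600011600601b000000601b0060080006006012006019000500601900600600060001a50060170001006017006006000000600600601500060060150001900001006012006012000500019000601200020060120001120000006011000078000500007800600f000100600f006005000100600a00600d000500600d00004b000000600c00004b00020001d700600a000500600a00009800060000980060080001006008006004000200600400600600060060060000e3000500600500009600060060040000770006000096006002000100600200600000050060000060000006006000000049)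
    [nat_lit 108] [nat_lit 0, nat_lit 0x1000000000002000400b5, nat_lit 0, nat_lit
    0x500010000000000000005006a, nat_lit 0, nat_lit 0, nat_lit 0, nat_lit 0xd0000000a00030080, nat_lit 0,
    nat_lit 0x1100090000000000000005006a, nat_lit 0, nat_lit 0x150000000000030079, nat_lit 0, nat_lit 0,
    nat_lit 0x1b00000000000000160005005e, nat_lit 0, nat_lit 0x1f000b0000000000000005005f, nat_lit 0, nat_lit
    0, nat_lit 0x25000000000003007a, nat_lit 0x25000000000000002600050045, nat_lit 0, nat_lit
    0x2b0000000e0003003e, nat_lit 0, nat_lit 0x2f000d0000000000000005006a, nat_lit 0, nat_lit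
    0x33002d002b0027000400b4, nat_lit 0, nat_lit 0x37001400000003003f, nat_lit 0, nat_lit 0, nat_lit
    0x3d0000000000030079, nat_lit 0x3d0000001600030099, nat_lit 0, nat_lit 0x430018000000030080, nat_lit
    0x43001500000039000400b5, nat_lit 0, nat_lit 0x490000002400030031, nat_lit 0, nat_lit
    0x4d00190000001c000400b4, nat_lit 0, nat_lit 0x510022002400030038, nat_lit 0, nat_lit 0, nat_lit 0,
    nat_lit 0x590023000000030023, nat_lit 0, nat_lit 0x5d005300510056000400b5, nat_lit
    0x50001b00000000000000000002000300060008000c00200056005f000e0130, nat_lit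
    0x57005e00610050001e00440006006c, nat_lit 0x63005700020003, nat_lit 0, nat_lit 0, nat_lit
    0x69002f00100012003c00050045, nat_lit 0, nat_lit 0, nat_lit 0x6f00360029003500700005006a, nat_lit 0,
    nat_lit 0x730037003c00030023, nat_lit 0x73004700460003007a, nat_lit 0, nat_lit 0x790075007800030037,
    nat_lit 0, nat_lit 0x7d0040000000030080, nat_lit 0x7d004200440003009e, nat_lit 0x4c0065008100030059,
    nat_lit 0, nat_lit 0x85004c005a00030074, nat_lit 0, nat_lit 0, nat_lit 0x8b003100680003003f, nat_lit 0,
    nat_lit 0, nat_lit 0x910069006e00030079, nat_lit 0, nat_lit 0x95006d002f003400700005005f, nat_lit 0,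
    nat_lit 0x99006d0068008d000400b5, nat_lit 0, nat_lit 0, nat_lit 0x9f000000a000030023, nat_lit 0, nat_lit
    0, nat_lit 0xa50088008a00030058, nat_lit 0xa5008500840080000000050046, nat_lit 0, nat_lit 0, nat_lit
    0xad009b0099009600980071006f0033000d00000000000000000000000e0116, nat_lit 0xaf00ad008e00900005006a,
    nat_lit 0xb10000000000030080, nat_lit 0, nat_lit 0xb50091006c007a009e0005005f, nat_lit 0, nat_lit 0,
    nat_lit 0xbb000000a00003007a, nat_lit 0, nat_lit 0, nat_lit 0xc1009f0000000000a400050046, nat_lit 0,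
    nat_lit 0, nat_lit 0xc700c300c100a100bd00bb000000000000000000000000000000b3008f0067006e009300b6001300f0,
    nat_lit 0xb900b700c900c700040036, nat_lit 0xba00cc00c600030001, nat_lit 0xce00c500020001, nat_lit
    0xab0089005c0000000000a400cf009d007c0000000a0017, nat_lit 0xac00d200c000030001, nat_lit 0xd400bf00020001,
    nat_lit 0xd500a700030032, nat_lit 0xa900d7000000000000000800a6],
  .both (nat_lit 113) (nat_lit 1),
  .loc (nat_lit 0x5001f3f0012be00050012be001f3f000500127a00600000000060000006e1) [nat_lit 2, nat_lit 3]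
    [nat_lit 0, nat_lit 0x10000000000030038, nat_lit 0x300010000000000000000000000000000000000000000001300d1,
    nat_lit 0x50001000b],
  .both (nat_lit 53) (nat_lit 1),
  .both (nat_lit 33) (nat_lit 1),
  .both (nat_lit 46) (nat_lit 1),
  .both (nat_lit 53) (nat_lit 1),
  .both (nat_lit 139) (nat_lit 1),
  .both (nat_lit 179) (nat_lit 2),
  .both (nat_lit 151) (nat_lit 1),
  .both (nat_lit 119) (nat_lit 1),
  .both (nat_lit 39) (nat_lit 1),
  .loc (nat_lit
    0x28bb00197e000000197e0028bb00050009400060090002000f25006009000000600900094100000006ee00600700050060070060050000000b07006005000200600500600300000006ed006003000100600300600000020003fb00600100050060010001c900000060000001c9)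
    [nat_lit 12, nat_lit 13] [nat_lit 0, nat_lit 0, nat_lit 0x30000000000030079, nat_lit 0, nat_lit
    0x70001000000000000000000000000000000090010, nat_lit 0, nat_lit 0xb000a000000030023, nat_lit 0, nat_lit
    0xf000e000000030037, nat_lit 0, nat_lit 0x130000000000030024, nat_lit 0x130000000000030038, nat_lit
    0x11000f000b000700010004000600000000001700160000001300ec, nat_lit 0x1900010001],
  .both (nat_lit 33) (nat_lit 1),
  .both (nat_lit 39) (nat_lit 1),
  .both (nat_lit 46) (nat_lit 1),
  .both (nat_lit 39) (nat_lit 1),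
  .both (nat_lit 60) (nat_lit 1),
  .both (nat_lit 178) (nat_lit 2),
  .sym (nat_lit 5),
  .both (nat_lit 163) (nat_lit 4),
  .both (nat_lit 113) (nat_lit 1),
  .both (nat_lit 126) (nat_lit 1),
  .loc (nat_lit
    0x50017b300159a000500159a0017b30005006004000f11000100600000600400000060040005f80005006000000aca0005000ad2006001000600600100047b000000600000047b)
    [nat_lit 7, nat_lit 8] [nat_lit 0, nat_lit 0, nat_lit
    0x30000000000000000000000000000000000000000000000000000000e0114, nat_lit 0x500030002000400c0, nat_lit 0,
    nat_lit 0x90000000000000000000000000000000200090011, nat_lit 0x8000b0005005d, nat_lit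
    0xa000d0000000000000000000000000000001300fb, nat_lit 0xf0001000b],
  .both (nat_lit 53) (nat_lit 1),
  .both (nat_lit 33) (nat_lit 1),
  .both (nat_lit 39) (nat_lit 1),
  .both (nat_lit 46) (nat_lit 1),
  .both (nat_lit 53) (nat_lit 1),
  .both (nat_lit 39) (nat_lit 1),
  .both (nat_lit 33) (nat_lit 1),
  .both (nat_lit 139) (nat_lit 1),
  .both (nat_lit 119) (nat_lit 1),
  .both (nat_lit 113) (nat_lit 1),
  .both (nat_lit 119) (nat_lit 1),
  .both (nat_lit 126) (nat_lit 1),
  .both (nat_lit 165) (nat_lit 4),
  .both (nat_lit 113) (nat_lit 1),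
  .both (nat_lit 14) (nat_lit 4),
  .both (nat_lit 33) (nat_lit 1),
  .both (nat_lit 39) (nat_lit 1),
  .both (nat_lit 163) (nat_lit 4),
  .both (nat_lit 113) (nat_lit 1),
  .both (nat_lit 196) (nat_lit 9),
  .sym (nat_lit 0),
  .both (nat_lit 39) (nat_lit 1),
  .both (nat_lit 53) (nat_lit 1),
  .both (nat_lit 33) (nat_lit 1),
  .both (nat_lit 46) (nat_lit 1),
  .both (nat_lit 39) (nat_lit 1),
  .both (nat_lit 46) (nat_lit 1),
  .both (nat_lit 161) (nat_lit 4),
  .both (nat_lit 113) (nat_lit 1),
  .loc (cat (nat_lit 16384) (nat_lit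
    0x60060ff0060c200010060d60060fc00020060e50060fc00060060fc0060b900010060ed0060f900020060e30060f900000060f90060b900050060f30060f700060060f70060b800020060f40060e400050060b90060f400010060f40060b800060060f30060b700010060f20060b700010060f10060b600020060b80060ef00050060ef0060b400020060b70060ed00000060ed0060b400020060c70060eb00010060eb0060ae00060060ea0060ab00030060ae0060e800060060e80060a900030060ab0060e600010060e60060a900060060e50060a500050060e40060a500000060e30060a5000200026d0060e100060060e10060a4000000026d0060df00060060df0060a200030060d80060dc00000060a40060dc00020060dc0060a200060060d90060d900010060a20060d900030060d900609f00020060d800011500060060d700609d00060060d600609c00000060c20060cd00020060d100609c000100609d0060d100050060cd0060d100000060d100609c00000004600060cf00050060cf00609a00020060c20060cd00010060cd00609800060060980060ca00000060980060ca00050060ca00609600020000970060c800030060c800609600010060c700609600050060bd0060c400020060930060c400060060c4006091000500609c0060c200010060c200609100000060910060c000050060c000027d000600027d0060bd000000608f00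60bd00020060bd00608d00010060b00060bb00000060bb00607e00020060a50060b900010060b900607800050060b800607700000060b700607700050060b600607400020060770060b400010060b400607400000060750060b200050060b200607300000060740060b000020060b0006073000200606f0060ae00060060ae00606d000500607e0060ab00020060ab0060ab00010060ab00606d000300606d0060a900050060a900606c00020060690060a6000000606d0060a600050060a600606700010060a500606700020060a400019600000001960060a200030060a2006058000600609f00609f000200029700609f000100609f006058000500018300609d000200609d00604d000100609c00604b000000069700609a000200609a0060490002006047006098000500609800010500000001050060960002006096006045000100609300604f0003006043006093000600609300604100020060410060910005006091000184000100605f00608f000200608f00603f00060001bf00608d000000608d00603f0001006069006075000300607f006069000000606300607f000100603000603900ff00606600603900ff00607c00603000ff00606100603e00ff00602e00608100050060820060510001006056006082000600608200603e000000608100603e000500603e00607f000100607f00603d000100607e00603c000300603e00607c000100607c00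6039000600604b0060780002006039006078000000603c00607800050060780060370001006077006037000300603d006075000500607500603500020060740060350000006073006035000100606f006045000300605100606f000000606000606f000600606f006033000200603300606d000500606d006031000300606c00603100060060600060690000006033006069000500606900603000000060310060670002006067006030000100606600603000060060510060630003006033006063000500606300602e0003006030006061000000606100602e000500606000602c000200605f00602c000100602b00604300ff006043006057000100605a006052000500605600605a000600605a00602b00000000e6006058000200605800602b000100605700602b0006006056006029000500602b0060540000006054006029000600602700605200050060520060260001006051006026000300602b00604f000000604f0000dc00050000dc00604d000100604d006025000200602500604b000500604b000181000000045f00604900010060490060240001006041006047000500604700008c0003006026006045000000604500008c0002000194006043000600604300602200030060220060410005006041000106000600010600603f000100603f00601c000100603e00601a000500603d006019000500603c006016000300601a006039000000601800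60390005006039006014000000601600603700020060370060140003006019006035000100603500601400010060330060330005006033006013000100601600603100020060310060130000006030006013000300601300602e000100602e006011000600601300602c000100602c006010000000602b0000780005000078006029000100602900600f0001006022006027000500602700004b000000602600004b0005006025000104000000602400010400020001d700602200050060220000980006000112006020000500602000600d000600009800601e000100601e00600d000200601000601c000600601c0000db000600600f00601a000500601a00600c000100601900600c000500601800600900060001810060160002006016006009000300600c00601400000060140060090001006013006006000300600600601100060060110000950006006010000180000500600f000096000000019100600d000600600d000077000000600c006004000600010400600900030060040060090001006009006002000500600600600600020060020060060006006006000103000600009600600400010060040060000003006000006002000600600200008a00050060000060000006006000000049)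
    (nat_lit
    0x200019600026d000200026d00019600ff0060e100019600ff0060a400026d00ff0060dc0060df00ff0060df00611800ff00614000611a0006006118006140000300614000613e00020061180061400001006140006116000200613300613e000600613e0061140000006123006133000600612f006123000100612100612f00010061000060ea00ff00612e0060ea00ff00612500610000ff0060eb006131000600610300612700050061050061340001006134006103000600613300610100000061040061310006006131006100000000610100612f000300612f006100000100612e006100000600612b006105000100610600612b000000612b0060f100050060f1006128000200611e00612800010061280060ef00050061270060eb00060060eb00612500010061250060ea00030060eb00612300010061230060e800030060ea00612100060061210060e600000060f400611f000500611f0060e5000100611e0060e400000060e400611c000500611c0060e300020060df00611a000600611a0060dc000300611400611800010061180060dc000600611600611600020061160060d9000200610100611400010061140060d800020060e50060e300010060d60060e300ff0060fc0060e300010060ed0060e500000060b90060e500ff0060f90060e500050060ff0060f200020060d60060f200000060d60060f200060060f20060d100010060d70060f300050060d600610600020060ff00610600060061060060cd00010061050060ca00060061040060c700050061030060c700010060c800610100030061010060c700000061000060c7))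
    [nat_lit 329, nat_lit 330] [nat_lit 0, nat_lit 0x1000000000002000400b5, nat_lit 0, nat_lit
    0x50000000200030093, nat_lit 0, nat_lit 0x900010000000000000005006a, nat_lit 0, nat_lit
    0xd0000000600030080, nat_lit 0xd00000000000e000400b5, nat_lit 0, nat_lit 0x130008000a00030051, nat_lit
    0x1300050000000000000005006a, nat_lit 0, nat_lit 0, nat_lit 0x1b000000000003003e, nat_lit 0, nat_lit 0,
    nat_lit 0, nat_lit 0x230000000e00030093, nat_lit 0, nat_lit 0, nat_lit 0x290016001a0003002a, nat_lit 0,
    nat_lit 0x2d0018000000030081, nat_lit 0, nat_lit 0, nat_lit 0, nat_lit 0x350019000c0020000400b4, nat_lit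
    0, nat_lit 0x390000002200030080, nat_lit 0, nat_lit 0x3d001b0000000000000005006a, nat_lit 0, nat_lit
    0x41001e00000000000400b4, nat_lit 0, nat_lit 0x450000000000030079, nat_lit 0, nat_lit 0, nat_lit 0,
    nat_lit 0, nat_lit 0x4f00000000000000460005005e, nat_lit 0, nat_lit 0x53001f0000000000000005005f, nat_lit
    0, nat_lit 0, nat_lit 0x5900210000000e00280005006a, nat_lit 0, nat_lit 0x5d0026002800030051, nat_lit 0,
    nat_lit 0, nat_lit 0x63002700100014002e00050045, nat_lit 0, nat_lit 0x6700270011002800680005005e, nat_lit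
    0, nat_lit 0x6b002c003400030051, nat_lit 0, nat_lit 0x6f0029002e00030023, nat_lit 0, nat_lit
    0x730029003200030037, nat_lit 0x73002c00360003008d, nat_lit 0, nat_lit 0, nat_lit 0, nat_lit 0, nat_lit
    0x7f00390000000000000005006a, nat_lit 0, nat_lit 0x83000000460003008d, nat_lit 0, nat_lit
    0x870048000000030080, nat_lit 0, nat_lit 0x8b0000004e0003002a, nat_lit 0, nat_lit
    0x8f00000000000000840005005e, nat_lit 0, nat_lit 0x930049000000000000000000000000000000090010, nat_lit 0,
    nat_lit 0x970000004c00030079, nat_lit 0, nat_lit 0x9b004b0000000000000005005f, nat_lit 0, nat_lit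
    0x9f000000580003002a, nat_lit 0, nat_lit 0, nat_lit 0xa5004d00000050000400b4, nat_lit 0, nat_lit
    0xa90056005800030038, nat_lit 0, nat_lit 0, nat_lit 0, nat_lit 0xb10057000000030023, nat_lit 0, nat_lit
    0xb500ab00a900ae000400b5, nat_lit 0xa8004f000000000000000000020003000a000c0020005400ae00b7000e0130,
    nat_lit 0xaf00b600b900a8005200880006006c, nat_lit 0xbb00af00020003, nat_lit 0, nat_lit 0, nat_lit 0,
    nat_lit 0xc3006000620003002a, nat_lit 0, nat_lit 0xc7006000680003008d, nat_lit
    0xc7005d00230000000000430041003e00400046005100a700a500a4000e0132, nat_lit 0, nat_lit 0, nat_lit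
    0xcf0061006400030023, nat_lit 0, nat_lit 0xd30061006800030037, nat_lit 0xd30061005b00c2000400b4, nat_lit
    0, nat_lit 0, nat_lit 0xdb0063006800030079, nat_lit 0, nat_lit 0xdf00d500d80003003e, nat_lit
    0xdf00c900cc00030093, nat_lit 0x8e00a400e300030052, nat_lit 0, nat_lit 0, nat_lit 0, nat_lit
    0xeb006e007c0003008d, nat_lit 0, nat_lit 0, nat_lit 0xf10072007a00030037, nat_lit 0xf1006f007400030079,
    nat_lit 0xf1007200300098000400b4, nat_lit 0, nat_lit 0xf90078007e00030051, nat_lit 0, nat_lit 0, nat_lit
    0xff007b00330036007e0005005f, nat_lit 0, nat_lit 0, nat_lit 0x105007d0038005400ae00050069, nat_lit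
    0xa300a600ba00b801070005005d, nat_lit 0x1030106010900cb00c7000500b3, nat_lit 0x104010c00c400030001,
    nat_lit 0xc5010d00fb00030007, nat_lit 0xfa010f00ce00030003, nat_lit 0x11200cd00020003, nat_lit
    0x1020106010900cb000400bc, nat_lit 0xd600c9011500030028, nat_lit 0xee0100011700030052, nat_lit 0, nat_lit
    0x11b008200000003003f, nat_lit 0, nat_lit 0x11f007f003c005a00c000050045, nat_lit 0, nat_lit
    0x1230000008400030079, nat_lit 0, nat_lit 0x1270086008800030093, nat_lit 0xa200bd012900030052, nat_lit 0,
    nat_lit 0x12d008b000000030023, nat_lit 0, nat_lit 0x1310000009000030079, nat_lit 0, nat_lit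
    0x1350096000000030023, nat_lit 0, nat_lit 0, nat_lit 0x13b009e00000003007a, nat_lit 0, nat_lit
    0x13f00b100bd008a000000050046, nat_lit 0x142000001410003007f, nat_lit 0, nat_lit 0x14500b4000000030029,
    nat_lit 0, nat_lit 0, nat_lit 0, nat_lit 0x14d00d200dc00030037, nat_lit 0x14d00cf00d400030079, nat_lit 0,
    nat_lit 0x15300d900dc0003008d, nat_lit 0, nat_lit 0x15700de006900dd015800050046, nat_lit
    0x15700db0066007a00fe0005005f, nat_lit 0, nat_lit 0x15d00de00e000030080, nat_lit 0, nat_lit
    0x16100e700ea00030023, nat_lit 0, nat_lit 0x16500e700ec00030037, nat_lit 0, nat_lit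
    0x16900e9006b007000f000050046, nat_lit 0, nat_lit 0, nat_lit 0, nat_lit 0, nat_lit
    0x17300f6011400d0014c00050046, nat_lit 0, nat_lit
    0x177015b01590157014f014d00cf011300760031002e006500d1014e01520119016701650162001300ed, nat_lit 0, nat_lit
    0x17b011b012000030023, nat_lit 0x17b011e000000030081, nat_lit 0, nat_lit 0x1810000012400030037, nat_lit
    0, nat_lit 0x185012300000098013a0005005f, nat_lit 0, nat_lit 0x1890126012800030080, nat_lit
    0x18901230000017f000400b5, nat_lit 0, nat_lit 0, nat_lit 0x191012d008b00000000000000000000000800a4,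
    nat_lit 0, nat_lit 0x1950130013200030037, nat_lit 0x195013000000132000400b4, nat_lit 0, nat_lit
    0x19b013400920125018600050046, nat_lit 0, nat_lit 0x19f0138000000030037, nat_lit 0, nat_lit
    0x1a30139009a004b004a0094013601a001a2000000000000000000000000018201840186019d001300c9, nat_lit
    0x1a30187019d019b01970195012d00e600e200c100c00121017d018d018c012b009f009d013c001300ed, nat_lit
    0x139009a009c013c01a700050044, nat_lit 0x1a501a3018700030037, nat_lit 0, nat_lit 0, nat_lit 0, nat_lit 0,
    nat_lit 0x1b3013f014600030050, nat_lit 0x1b3014301b400030094, nat_lit 0, nat_lit 0x1b90148014a00030023,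
    nat_lit 0x1b901480000000000000000000001b2000800a3, nat_lit 0, nat_lit 0x1bf014800000003003e, nat_lit 0,
    nat_lit 0x1c30149000000030080, nat_lit 0, nat_lit 0, nat_lit 0, nat_lit 0, nat_lit 0x1cd0156015800030051,
    nat_lit 0, nat_lit 0x1d10156015e00030093, nat_lit 0, nat_lit 0, nat_lit 0x1d7016000e5012e019000050046,
    nat_lit 0, nat_lit 0x1db016c017000030024, nat_lit 0, nat_lit 0x1df016c017200030079, nat_lit 0, nat_lit 0,
    nat_lit 0, nat_lit 0, nat_lit 0x1e9017100ef00f201740005005f, nat_lit 0x1c9017501eb0003007b, nat_lit 0,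
    nat_lit 0x1ef0171017001e8000400b5, nat_lit 0, nat_lit 0x1f3017601c800030024, nat_lit
    0x1f3017300f400fe0178017a0164016a01dc00090011, nat_lit 0, nat_lit 0x1f9017601cc00030080, nat_lit
    0x1f9017300f8013a01ae00050069, nat_lit 0, nat_lit 0, nat_lit 0, nat_lit 0x203018f019200030050, nat_lit 0,
    nat_lit 0, nat_lit 0, nat_lit 0, nat_lit 0x20d019e020000030080, nat_lit 0x20d01a501a301ae000400b5,
    nat_lit 0x1f101ef01ea01ec01fa01fe0211020d019b013100000000013d01b0000e011b, nat_lit
    0x1a801b0021301e701e60005006c, nat_lit 0x21501a301ae0003003e, nat_lit 0x21501a901ae00030080, nat_lit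
    0x21501a601ac0200000400b5, nat_lit 0x1fb01fe021901e501dd01f700060047, nat_lit 0x21e01f300020001, nat_lit
    0x21e01f800020003, nat_lit 0x1f5021d01fb00030005, nat_lit 0x22401fe00020003, nat_lit 0x22401fc00020005,
    nat_lit 0, nat_lit 0x22901b100000193020500050046, nat_lit 0, nat_lit 0x22d01b7022e00030081, nat_lit 0,
    nat_lit 0x23101be022a00030051, nat_lit 0, nat_lit 0x23501b901c000030080, nat_lit 0, nat_lit
    0x23901c701ca00030037, nat_lit 0, nat_lit 0, nat_lit 0x23f022001eb00030037, nat_lit 0, nat_lit
    0x24301d001d600030093, nat_lit 0, nat_lit 0x24701d401d800030051, nat_lit 0, nat_lit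
    0x24b01d50157015e01d80005006a, nat_lit 0, nat_lit 0, nat_lit 0x25101e201ea01ed023e00050046, nat_lit
    0x25101df0169016e01e40005005f, nat_lit 0, nat_lit
    0x25702550254023d023b02390228022201db01e001e201ea0241023f022702260217021c020f001300ed, nat_lit
    0x20b019a019c020e025900050068, nat_lit 0, nat_lit 0, nat_lit 0x25f0201020400030029, nat_lit 0, nat_lit
    0x2630201020a0003003e, nat_lit 0, nat_lit 0, nat_lit 0x2690207018f0196020c0005005f, nat_lit
    0x24f01d7015d00db006600300098013a01ae02110259025b026b0269000e013e, nat_lit 0x26602090208026d024f000500b3,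
    nat_lit 0x2640270024d0003000d, nat_lit 0x24c0271025e00030003, nat_lit 0x274025d00020003, nat_lit
    0x25f0275024500030052, nat_lit 0x24701d101ce0244027700050068, nat_lit 0x2670261027900030040, nat_lit 0,
    nat_lit 0x27d022c026800030080, nat_lit 0, nat_lit 0x281022d01b601ba023200050046, nat_lit
    0x280027c024a01da0204022b02330283000800a3, nat_lit 0x285027d023300030094, nat_lit
    0x235023202870281022f02820006006b, nat_lit 0x2830289023800030005, nat_lit 0x28b0287028902350004000d,
    nat_lit 0x1c1028e01bc00030001, nat_lit 0x14a028f01c500030005, nat_lit 0x29201c600020005, nat_lit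
    0x29300010005],
  .both (nat_lit 113) (nat_lit 1),
  .both (nat_lit 67) (nat_lit 2),
  .both (nat_lit 119) (nat_lit 1),
  .both (nat_lit 161) (nat_lit 4),
  .sym (nat_lit 0),
  .sym (nat_lit 2),
  .both (nat_lit 46) (nat_lit 1),
  .both (nat_lit 39) (nat_lit 1),
  .both (nat_lit 113) (nat_lit 1),
  .both (nat_lit 179) (nat_lit 2),
  .both (nat_lit 103) (nat_lit 2),
  .both (nat_lit 67) (nat_lit 2),
  .both (nat_lit 78) (nat_lit 1),
  .both (nat_lit 85) (nat_lit 1),
  .both (nat_lit 126) (nat_lit 1),
  .both (nat_lit 14) (nat_lit 4),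
  .both (nat_lit 33) (nat_lit 1),
  .both (nat_lit 39) (nat_lit 1),
  .both (nat_lit 46) (nat_lit 1),
  .both (nat_lit 53) (nat_lit 1),
  .both (nat_lit 179) (nat_lit 2),
  .both (nat_lit 14) (nat_lit 4),
  .both (nat_lit 92) (nat_lit 2),
  .both (nat_lit 119) (nat_lit 1),
  .both (nat_lit 178) (nat_lit 2),
  .sym (nat_lit 0),
  .both (nat_lit 139) (nat_lit 1),
  .both (nat_lit 92) (nat_lit 2),
  .both (nat_lit 103) (nat_lit 2),
  .both (nat_lit 151) (nat_lit 1),
  .both (nat_lit 119) (nat_lit 1),
  .both (nat_lit 178) (nat_lit 2),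
  .sym (nat_lit 0),
  .sym (nat_lit 5),
  .both (nat_lit 67) (nat_lit 2),
  .both (nat_lit 126) (nat_lit 1),
  .both (nat_lit 119) (nat_lit 1),
  .both (nat_lit 85) (nat_lit 1),
  .both (nat_lit 156) (nat_lit 1),
  .both (nat_lit 145) (nat_lit 1),
  .both (nat_lit 60) (nat_lit 1),
  .both (nat_lit 178) (nat_lit 2),
  .sym (nat_lit 0),
  .sym (nat_lit 5),
  .both (nat_lit 67) (nat_lit 2),
  .both (nat_lit 78) (nat_lit 1),
  .both (nat_lit 139) (nat_lit 1),
  .both (nat_lit 156) (nat_lit 1),
  .both (nat_lit 275) (nat_lit 7),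
  .sym (nat_lit 5),
  .sym (nat_lit 6),
  .both (nat_lit 119) (nat_lit 1),
  .both (nat_lit 53) (nat_lit 1),
  .both (nat_lit 126) (nat_lit 1),
  .both (nat_lit 33) (nat_lit 1),
  .both (nat_lit 60) (nat_lit 1),
  .both (nat_lit 39) (nat_lit 1),
  .both (nat_lit 53) (nat_lit 1),
  .both (nat_lit 46) (nat_lit 1),
  .both (nat_lit 33) (nat_lit 1),
  .both (nat_lit 179) (nat_lit 2),
  .sym (nat_lit 5),
  .both (nat_lit 126) (nat_lit 1),
  .both (nat_lit 53) (nat_lit 1),
  .both (nat_lit 92) (nat_lit 2),
  .both (nat_lit 67) (nat_lit 2),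
  .both (nat_lit 119) (nat_lit 1),
  .both (nat_lit 139) (nat_lit 1),
  .both (nat_lit 182) (nat_lit 2),
  .sym (nat_lit 0),
  .sym (nat_lit 6),
  .both (nat_lit 103) (nat_lit 2),
  .both (nat_lit 126) (nat_lit 1),
  .both (nat_lit 178) (nat_lit 2),
  .sym (nat_lit 0),
  .sym (nat_lit 5),
  .both (nat_lit 151) (nat_lit 1),
  .both (nat_lit 119) (nat_lit 1),
  .both (nat_lit 139) (nat_lit 1),
  .both (nat_lit 53) (nat_lit 1),
  .both (nat_lit 78) (nat_lit 1),
  .both (nat_lit 85) (nat_lit 1),
  .both (nat_lit 145) (nat_lit 1),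
  .both (nat_lit 156) (nat_lit 1),
  .both (nat_lit 92) (nat_lit 2),
  .both (nat_lit 67) (nat_lit 2)]

theorem run1 : sub K2 (runK B ns (ivT IVc 7) RT LT 410 111 st1 K1) = true := by
  decide +kernel

def st2 : List Step := [.both (nat_lit 126) (nat_lit 1),
  .both (nat_lit 119) (nat_lit 1),
  .both (nat_lit 60) (nat_lit 1),
  .both (nat_lit 151) (nat_lit 1),
  .both (nat_lit 161) (nat_lit 4),
  .sym (nat_lit 0),
  .sym (nat_lit 2),
  .both (nat_lit 113) (nat_lit 1),
  .both (nat_lit 46) (nat_lit 1),
  .both (nat_lit 39) (nat_lit 1),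
  .both (nat_lit 67) (nat_lit 2),
  .both (nat_lit 78) (nat_lit 1),
  .both (nat_lit 85) (nat_lit 1),
  .both (nat_lit 103) (nat_lit 2),
  .both (nat_lit 126) (nat_lit 1),
  .both (nat_lit 145) (nat_lit 1),
  .both (nat_lit 92) (nat_lit 2),
  .both (nat_lit 119) (nat_lit 1),
  .both (nat_lit 139) (nat_lit 1),
  .both (nat_lit 178) (nat_lit 2),
  .sym (nat_lit 0),
  .sym (nat_lit 5),
  .both (nat_lit 33) (nat_lit 1),
  .both (nat_lit 156) (nat_lit 1),
  .both (nat_lit 67) (nat_lit 2),
  .both (nat_lit 78) (nat_lit 1),
  .both (nat_lit 119) (nat_lit 1),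
  .both (nat_lit 92) (nat_lit 2),
  .both (nat_lit 53) (nat_lit 1),
  .both (nat_lit 119) (nat_lit 1),
  .both (nat_lit 139) (nat_lit 1),
  .both (nat_lit 151) (nat_lit 1),
  .both (nat_lit 119) (nat_lit 1),
  .both (nat_lit 92) (nat_lit 2),
  .both (nat_lit 85) (nat_lit 1),
  .both (nat_lit 46) (nat_lit 1),
  .both (nat_lit 14) (nat_lit 4),
  .both (nat_lit 165) (nat_lit 4),
  .sym (nat_lit 2),
  .both (nat_lit 113) (nat_lit 1),
  .both (nat_lit 53) (nat_lit 1),
  .both (nat_lit 60) (nat_lit 1),
  .both (nat_lit 139) (nat_lit 1),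
  .both (nat_lit 67) (nat_lit 2),
  .both (nat_lit 78) (nat_lit 1),
  .both (nat_lit 151) (nat_lit 1),
  .both (nat_lit 39) (nat_lit 1),
  .both (nat_lit 119) (nat_lit 1),
  .both (nat_lit 46) (nat_lit 1),
  .both (nat_lit 199) (nat_lit 9),
  .sym (nat_lit 0),
  .sym (nat_lit 1),
  .both (nat_lit 39) (nat_lit 1),
  .both (nat_lit 53) (nat_lit 1),
  .both (nat_lit 46) (nat_lit 1),
  .both (nat_lit 33) (nat_lit 1),
  .both (nat_lit 39) (nat_lit 1),
  .both (nat_lit 180) (nat_lit 2),
  .both (nat_lit 46) (nat_lit 1),
  .both (nat_lit 151) (nat_lit 1),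
  .both (nat_lit 163) (nat_lit 4),
  .both (nat_lit 113) (nat_lit 1),
  .both (nat_lit 33) (nat_lit 1),
  .both (nat_lit 92) (nat_lit 2),
  .both (nat_lit 119) (nat_lit 1),
  .both (nat_lit 126) (nat_lit 1),
  .both (nat_lit 39) (nat_lit 1),
  .both (nat_lit 14) (nat_lit 4),
  .both (nat_lit 60) (nat_lit 1),
  .both (nat_lit 33) (nat_lit 1),
  .both (nat_lit 39) (nat_lit 1),
  .both (nat_lit 46) (nat_lit 1),
  .both (nat_lit 53) (nat_lit 1),
  .both (nat_lit 78) (nat_lit 1),
  .both (nat_lit 139) (nat_lit 1),
  .both (nat_lit 67) (nat_lit 2),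
  .both (nat_lit 33) (nat_lit 1),
  .both (nat_lit 85) (nat_lit 1),
  .both (nat_lit 78) (nat_lit 1),
  .both (nat_lit 85) (nat_lit 1),
  .both (nat_lit 103) (nat_lit 2),
  .both (nat_lit 126) (nat_lit 1),
  .both (nat_lit 145) (nat_lit 1),
  .both (nat_lit 156) (nat_lit 1),
  .both (nat_lit 178) (nat_lit 2),
  .sym (nat_lit 0),
  .sym (nat_lit 5),
  .both (nat_lit 60) (nat_lit 1),
  .both (nat_lit 53) (nat_lit 1),
  .both (nat_lit 33) (nat_lit 1),
  .both (nat_lit 92) (nat_lit 2),
  .both (nat_lit 119) (nat_lit 1),
  .both (nat_lit 67) (nat_lit 2),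
  .both (nat_lit 78) (nat_lit 1),
  .both (nat_lit 85) (nat_lit 1),
  .both (nat_lit 161) (nat_lit 4),
  .sym (nat_lit 0),
  .sym (nat_lit 2),
  .both (nat_lit 53) (nat_lit 1),
  .both (nat_lit 113) (nat_lit 1),
  .both (nat_lit 126) (nat_lit 1),
  .both (nat_lit 14) (nat_lit 4),
  .both (nat_lit 33) (nat_lit 1),
  .both (nat_lit 53) (nat_lit 1),
  .both (nat_lit 180) (nat_lit 2),
  .sym (nat_lit 5),
  .both (nat_lit 39) (nat_lit 1),
  .both (nat_lit 60) (nat_lit 1),
  .both (nat_lit 46) (nat_lit 1),
  .both (nat_lit 139) (nat_lit 1),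
  .both (nat_lit 151) (nat_lit 1),
  .both (nat_lit 92) (nat_lit 2),
  .both (nat_lit 165) (nat_lit 4),
  .both (nat_lit 113) (nat_lit 1),
  .both (nat_lit 126) (nat_lit 1),
  .both (nat_lit 274) (nat_lit 7),
  .sym (nat_lit 1),
  .sym (nat_lit 6),
  .both (nat_lit 126) (nat_lit 1),
  .both (nat_lit 145) (nat_lit 1),
  .both (nat_lit 156) (nat_lit 1),
  .both (nat_lit 60) (nat_lit 1),
  .both (nat_lit 126) (nat_lit 1),
  .both (nat_lit 67) (nat_lit 2),
  .both (nat_lit 78) (nat_lit 1),
  .both (nat_lit 85) (nat_lit 1),
  .both (nat_lit 92) (nat_lit 2),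
  .both (nat_lit 119) (nat_lit 1),
  .both (nat_lit 182) (nat_lit 2),
  .sym (nat_lit 0),
  .sym (nat_lit 6),
  .both (nat_lit 139) (nat_lit 1),
  .both (nat_lit 151) (nat_lit 1),
  .both (nat_lit 92) (nat_lit 2),
  .both (nat_lit 103) (nat_lit 2),
  .both (nat_lit 126) (nat_lit 1),
  .both (nat_lit 182) (nat_lit 2),
  .sym (nat_lit 0),
  .sym (nat_lit 6),
  .both (nat_lit 145) (nat_lit 1),
  .both (nat_lit 156) (nat_lit 1),
  .both (nat_lit 103) (nat_lit 2),
  .both (nat_lit 126) (nat_lit 1),
  .both (nat_lit 60) (nat_lit 1),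
  .both (nat_lit 103) (nat_lit 2),
  .both (nat_lit 126) (nat_lit 1),
  .both (nat_lit 145) (nat_lit 1),
  .both (nat_lit 156) (nat_lit 1),
  .both (nat_lit 178) (nat_lit 2),
  .sym (nat_lit 0),
  .sym (nat_lit 5),
  .both (nat_lit 92) (nat_lit 2),
  .both (nat_lit 119) (nat_lit 1),
  .both (nat_lit 180) (nat_lit 2),
  .both (nat_lit 67) (nat_lit 2),
  .both (nat_lit 78) (nat_lit 1),
  .both (nat_lit 126) (nat_lit 1),
  .both (nat_lit 60) (nat_lit 1),
  .both (nat_lit 85) (nat_lit 1),
  .both (nat_lit 92) (nat_lit 2),
  .both (nat_lit 103) (nat_lit 2),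
  .both (nat_lit 67) (nat_lit 2),
  .both (nat_lit 119) (nat_lit 1),
  .both (nat_lit 92) (nat_lit 2),
  .both (nat_lit 119) (nat_lit 1),
  .both (nat_lit 139) (nat_lit 1),
  .both (nat_lit 151) (nat_lit 1),
  .both (nat_lit 92) (nat_lit 2),
  .both (nat_lit 274) (nat_lit 7),
  .sym (nat_lit 1),
  .sym (nat_lit 6),
  .both (nat_lit 178) (nat_lit 2),
  .sym (nat_lit 0),
  .sym (nat_lit 5),
  .both (nat_lit 33) (nat_lit 1),
  .both (nat_lit 39) (nat_lit 1),
  .both (nat_lit 180) (nat_lit 2),
  .sym (nat_lit 5),
  .sym (nat_lit 6),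
  .both (nat_lit 46) (nat_lit 1),
  .both (nat_lit 103) (nat_lit 2),
  .both (nat_lit 178) (nat_lit 2),
  .sym (nat_lit 0),
  .sym (nat_lit 5),
  .both (nat_lit 33) (nat_lit 1),
  .both (nat_lit 119) (nat_lit 1),
  .both (nat_lit 39) (nat_lit 1),
  .both (nat_lit 46) (nat_lit 1),
  .both (nat_lit 180) (nat_lit 2),
  .sym (nat_lit 5),
  .sym (nat_lit 6),
  .both (nat_lit 126) (nat_lit 1),
  .both (nat_lit 145) (nat_lit 1),
  .both (nat_lit 92) (nat_lit 2),
  .both (nat_lit 178) (nat_lit 2),
  .sym (nat_lit 0),
  .sym (nat_lit 5),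
  .both (nat_lit 119) (nat_lit 1),
  .both (nat_lit 33) (nat_lit 1),
  .both (nat_lit 139) (nat_lit 1),
  .both (nat_lit 39) (nat_lit 1),
  .both (nat_lit 180) (nat_lit 2),
  .both (nat_lit 151) (nat_lit 1),
  .both (nat_lit 119) (nat_lit 1),
  .both (nat_lit 178) (nat_lit 2),
  .both (nat_lit 166) (nat_lit 4),
  .sym (nat_lit 2),
  .sym (nat_lit 3),
  .both (nat_lit 113) (nat_lit 1),
  .both (nat_lit 126) (nat_lit 1),
  .both (nat_lit 33) (nat_lit 1),
  .both (nat_lit 67) (nat_lit 2),
  .both (nat_lit 78) (nat_lit 1),
  .both (nat_lit 85) (nat_lit 1),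
  .both (nat_lit 119) (nat_lit 1),
  .both (nat_lit 139) (nat_lit 1),
  .both (nat_lit 53) (nat_lit 1),
  .both (nat_lit 180) (nat_lit 2),
  .both (nat_lit 92) (nat_lit 2),
  .both (nat_lit 119) (nat_lit 1),
  .both (nat_lit 53) (nat_lit 1),
  .both (nat_lit 151) (nat_lit 1),
  .both (nat_lit 103) (nat_lit 2),
  .both (nat_lit 39) (nat_lit 1),
  .both (nat_lit 33) (nat_lit 1),
  .both (nat_lit 39) (nat_lit 1),
  .both (nat_lit 46) (nat_lit 1),
  .both (nat_lit 78) (nat_lit 1),
  .both (nat_lit 139) (nat_lit 1),
  .both (nat_lit 92) (nat_lit 2),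
  .both (nat_lit 119) (nat_lit 1),
  .both (nat_lit 151) (nat_lit 1),
  .both (nat_lit 178) (nat_lit 2),
  .sym (nat_lit 0),
  .sym (nat_lit 5),
  .both (nat_lit 85) (nat_lit 1),
  .both (nat_lit 113) (nat_lit 1),
  .both (nat_lit 126) (nat_lit 1),
  .both (nat_lit 67) (nat_lit 2),
  .both (nat_lit 78) (nat_lit 1),
  .both (nat_lit 14) (nat_lit 4),
  .both (nat_lit 33) (nat_lit 1),
  .both (nat_lit 119) (nat_lit 1),
  .both (nat_lit 60) (nat_lit 1),
  .both (nat_lit 39) (nat_lit 1),
  .both (nat_lit 46) (nat_lit 1),
  .both (nat_lit 92) (nat_lit 2),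
  .both (nat_lit 161) (nat_lit 4),
  .sym (nat_lit 0),
  .sym (nat_lit 2),
  .both (nat_lit 46) (nat_lit 1),
  .both (nat_lit 53) (nat_lit 1),
  .both (nat_lit 39) (nat_lit 1),
  .both (nat_lit 180) (nat_lit 2),
  .sym (nat_lit 5),
  .both (nat_lit 113) (nat_lit 1),
  .both (nat_lit 67) (nat_lit 2),
  .both (nat_lit 78) (nat_lit 1),
  .both (nat_lit 103) (nat_lit 2),
  .both (nat_lit 85) (nat_lit 1),
  .both (nat_lit 126) (nat_lit 1),
  .both (nat_lit 145) (nat_lit 1),
  .both (nat_lit 33) (nat_lit 1),
  .both (nat_lit 119) (nat_lit 1),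
  .both (nat_lit 139) (nat_lit 1),
  .both (nat_lit 151) (nat_lit 1),
  .both (nat_lit 92) (nat_lit 2),
  .both (nat_lit 119) (nat_lit 1),
  .both (nat_lit 53) (nat_lit 1),
  .both (nat_lit 181) (nat_lit 2),
  .sym (nat_lit 6),
  .both (nat_lit 103) (nat_lit 2),
  .both (nat_lit 126) (nat_lit 1),
  .both (nat_lit 33) (nat_lit 1),
  .both (nat_lit 67) (nat_lit 2),
  .both (nat_lit 78) (nat_lit 1),
  .both (nat_lit 85) (nat_lit 1),
  .both (nat_lit 103) (nat_lit 2),
  .both (nat_lit 126) (nat_lit 1),
  .both (nat_lit 178) (nat_lit 2),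
  .sym (nat_lit 0),
  .sym (nat_lit 5),
  .both (nat_lit 139) (nat_lit 1),
  .both (nat_lit 92) (nat_lit 2),
  .both (nat_lit 53) (nat_lit 1),
  .both (nat_lit 33) (nat_lit 1),
  .both (nat_lit 39) (nat_lit 1),
  .both (nat_lit 46) (nat_lit 1),
  .both (nat_lit 53) (nat_lit 1),
  .both (nat_lit 180) (nat_lit 2),
  .sym (nat_lit 5),
  .sym (nat_lit 6),
  .both (nat_lit 119) (nat_lit 1),
  .both (nat_lit 33) (nat_lit 1),
  .both (nat_lit 39) (nat_lit 1),
  .both (nat_lit 60) (nat_lit 1),
  .both (nat_lit 46) (nat_lit 1),
  .both (nat_lit 180) (nat_lit 2),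
  .sym (nat_lit 5),
  .both (nat_lit 156) (nat_lit 1),
  .both (nat_lit 126) (nat_lit 1),
  .both (nat_lit 67) (nat_lit 2),
  .both (nat_lit 78) (nat_lit 1),
  .both (nat_lit 85) (nat_lit 1),
  .both (nat_lit 92) (nat_lit 2),
  .both (nat_lit 119) (nat_lit 1),
  .both (nat_lit 139) (nat_lit 1),
  .both (nat_lit 145) (nat_lit 1),
  .both (nat_lit 163) (nat_lit 4),
  .sym (nat_lit 2),
  .sym (nat_lit 3),
  .both (nat_lit 67) (nat_lit 2),
  .both (nat_lit 78) (nat_lit 1),
  .both (nat_lit 103) (nat_lit 2),
  .both (nat_lit 126) (nat_lit 1),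
  .both (nat_lit 182) (nat_lit 2),
  .sym (nat_lit 0),
  .sym (nat_lit 6),
  .both (nat_lit 145) (nat_lit 1),
  .both (nat_lit 156) (nat_lit 1),
  .both (nat_lit 103) (nat_lit 2),
  .both (nat_lit 60) (nat_lit 1),
  .both (nat_lit 126) (nat_lit 1),
  .both (nat_lit 145) (nat_lit 1),
  .both (nat_lit 182) (nat_lit 2),
  .sym (nat_lit 0),
  .sym (nat_lit 6),
  .both (nat_lit 156) (nat_lit 1),
  .both (nat_lit 126) (nat_lit 1),
  .both (nat_lit 178) (nat_lit 2),
  .sym (nat_lit 0),
  .sym (nat_lit 5),
  .both (nat_lit 103) (nat_lit 2),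
  .both (nat_lit 60) (nat_lit 1),
  .both (nat_lit 145) (nat_lit 1),
  .both (nat_lit 126) (nat_lit 1),
  .both (nat_lit 178) (nat_lit 2),
  .sym (nat_lit 0),
  .sym (nat_lit 5),
  .both (nat_lit 92) (nat_lit 2),
  .both (nat_lit 119) (nat_lit 1),
  .both (nat_lit 156) (nat_lit 1),
  .both (nat_lit 182) (nat_lit 2),
  .sym (nat_lit 0),
  .sym (nat_lit 6),
  .both (nat_lit 145) (nat_lit 1),
  .both (nat_lit 60) (nat_lit 1),
  .both (nat_lit 103) (nat_lit 2),
  .both (nat_lit 126) (nat_lit 1),
  .both (nat_lit 67) (nat_lit 2),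
  .both (nat_lit 78) (nat_lit 1),
  .both (nat_lit 85) (nat_lit 1),
  .both (nat_lit 119) (nat_lit 1),
  .both (nat_lit 33) (nat_lit 1),
  .both (nat_lit 39) (nat_lit 1),
  .both (nat_lit 46) (nat_lit 1),
  .both (nat_lit 33) (nat_lit 1),
  .both (nat_lit 60) (nat_lit 1),
  .both (nat_lit 180) (nat_lit 2),
  .sym (nat_lit 5),
  .sym (nat_lit 6),
  .both (nat_lit 103) (nat_lit 2),
  .both (nat_lit 126) (nat_lit 1),
  .both (nat_lit 145) (nat_lit 1),
  .both (nat_lit 156) (nat_lit 1),
  .both (nat_lit 126) (nat_lit 1),
  .both (nat_lit 182) (nat_lit 2),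
  .sym (nat_lit 0),
  .sym (nat_lit 6),
  .both (nat_lit 145) (nat_lit 1),
  .both (nat_lit 103) (nat_lit 2),
  .both (nat_lit 126) (nat_lit 1),
  .both (nat_lit 178) (nat_lit 2),
  .sym (nat_lit 0),
  .sym (nat_lit 5),
  .both (nat_lit 46) (nat_lit 1),
  .both (nat_lit 60) (nat_lit 1),
  .both (nat_lit 39) (nat_lit 1),
  .both (nat_lit 33) (nat_lit 1),
  .both (nat_lit 67) (nat_lit 2),
  .both (nat_lit 78) (nat_lit 1),
  .both (nat_lit 92) (nat_lit 2),
  .both (nat_lit 119) (nat_lit 1),
  .both (nat_lit 139) (nat_lit 1),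
  .both (nat_lit 53) (nat_lit 1),
  .both (nat_lit 161) (nat_lit 4),
  .sym (nat_lit 0),
  .sym (nat_lit 2),
  .both (nat_lit 46) (nat_lit 1),
  .both (nat_lit 180) (nat_lit 2),
  .sym (nat_lit 5),
  .sym (nat_lit 6),
  .both (nat_lit 39) (nat_lit 1),
  .both (nat_lit 53) (nat_lit 1),
  .both (nat_lit 33) (nat_lit 1),
  .both (nat_lit 60) (nat_lit 1),
  .both (nat_lit 85) (nat_lit 1),
  .both (nat_lit 67) (nat_lit 2),
  .both (nat_lit 151) (nat_lit 1),
  .both (nat_lit 103) (nat_lit 2),
  .both (nat_lit 119) (nat_lit 1),
  .both (nat_lit 126) (nat_lit 1),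
  .both (nat_lit 33) (nat_lit 1),
  .both (nat_lit 39) (nat_lit 1),
  .both (nat_lit 46) (nat_lit 1),
  .both (nat_lit 113) (nat_lit 1),
  .both (nat_lit 67) (nat_lit 2),
  .both (nat_lit 78) (nat_lit 1),
  .both (nat_lit 85) (nat_lit 1),
  .both (nat_lit 53) (nat_lit 1),
  .both (nat_lit 182) (nat_lit 2),
  .sym (nat_lit 0),
  .sym (nat_lit 6),
  .both (nat_lit 165) (nat_lit 4),
  .sym (nat_lit 2),
  .both (nat_lit 113) (nat_lit 1),
  .both (nat_lit 33) (nat_lit 1),
  .both (nat_lit 39) (nat_lit 1),
  .both (nat_lit 126) (nat_lit 1),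
  .both (nat_lit 145) (nat_lit 1),
  .both (nat_lit 156) (nat_lit 1),
  .both (nat_lit 274) (nat_lit 7),
  .sym (nat_lit 1),
  .sym (nat_lit 6),
  .both (nat_lit 92) (nat_lit 2),
  .both (nat_lit 126) (nat_lit 1),
  .both (nat_lit 182) (nat_lit 2),
  .sym (nat_lit 0),
  .sym (nat_lit 6),
  .both (nat_lit 33) (nat_lit 1),
  .both (nat_lit 39) (nat_lit 1),
  .both (nat_lit 178) (nat_lit 2),
  .sym (nat_lit 5),
  .both (nat_lit 46) (nat_lit 1),
  .both (nat_lit 67) (nat_lit 2),
  .both (nat_lit 103) (nat_lit 2),
  .both (nat_lit 145) (nat_lit 1),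
  .both (nat_lit 126) (nat_lit 1),
  .both (nat_lit 60) (nat_lit 1),
  .both (nat_lit 156) (nat_lit 1),
  .both (nat_lit 178) (nat_lit 2),
  .sym (nat_lit 0),
  .sym (nat_lit 5),
  .both (nat_lit 119) (nat_lit 1),
  .both (nat_lit 78) (nat_lit 1),
  .both (nat_lit 145) (nat_lit 1),
  .both (nat_lit 126) (nat_lit 1),
  .both (nat_lit 156) (nat_lit 1),
  .both (nat_lit 103) (nat_lit 2),
  .both (nat_lit 92) (nat_lit 2),
  .both (nat_lit 178) (nat_lit 2),
  .sym (nat_lit 0),
  .sym (nat_lit 5),
  .both (nat_lit 119) (nat_lit 1),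
  .both (nat_lit 139) (nat_lit 1),
  .both (nat_lit 151) (nat_lit 1),
  .both (nat_lit 119) (nat_lit 1),
  .both (nat_lit 126) (nat_lit 1),
  .both (nat_lit 53) (nat_lit 1),
  .both (nat_lit 67) (nat_lit 2),
  .both (nat_lit 78) (nat_lit 1),
  .both (nat_lit 85) (nat_lit 1),
  .both (nat_lit 103) (nat_lit 2),
  .both (nat_lit 33) (nat_lit 1),
  .both (nat_lit 180) (nat_lit 2),
  .sym (nat_lit 6),
  .both (nat_lit 126) (nat_lit 1),
  .both (nat_lit 145) (nat_lit 1),
  .both (nat_lit 156) (nat_lit 1),
  .both (nat_lit 178) (nat_lit 2),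
  .sym (nat_lit 0),
  .sym (nat_lit 5),
  .both (nat_lit 92) (nat_lit 2),
  .both (nat_lit 119) (nat_lit 1),
  .both (nat_lit 139) (nat_lit 1),
  .both (nat_lit 126) (nat_lit 1),
  .both (nat_lit 53) (nat_lit 1),
  .both (nat_lit 161) (nat_lit 4),
  .sym (nat_lit 0),
  .sym (nat_lit 2),
  .both (nat_lit 46) (nat_lit 1),
  .both (nat_lit 180) (nat_lit 2),
  .sym (nat_lit 5),
  .sym (nat_lit 6),
  .both (nat_lit 39) (nat_lit 1),
  .both (nat_lit 33) (nat_lit 1),
  .both (nat_lit 53) (nat_lit 1),
  .both (nat_lit 126) (nat_lit 1),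
  .both (nat_lit 103) (nat_lit 2),
  .both (nat_lit 145) (nat_lit 1),
  .both (nat_lit 67) (nat_lit 2),
  .both (nat_lit 126) (nat_lit 1),
  .both (nat_lit 119) (nat_lit 1),
  .both (nat_lit 92) (nat_lit 2),
  .both (nat_lit 78) (nat_lit 1),
  .both (nat_lit 182) (nat_lit 2),
  .sym (nat_lit 0),
  .sym (nat_lit 6),
  .both (nat_lit 85) (nat_lit 1),
  .both (nat_lit 103) (nat_lit 2),
  .both (nat_lit 145) (nat_lit 1),
  .both (nat_lit 126) (nat_lit 1),
  .both (nat_lit 156) (nat_lit 1),
  .both (nat_lit 178) (nat_lit 2),
  .sym (nat_lit 0),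
  .sym (nat_lit 5),
  .both (nat_lit 33) (nat_lit 1),
  .both (nat_lit 39) (nat_lit 1),
  .both (nat_lit 46) (nat_lit 1),
  .both (nat_lit 33) (nat_lit 1),
  .both (nat_lit 60) (nat_lit 1),
  .both (nat_lit 180) (nat_lit 2),
  .sym (nat_lit 5),
  .sym (nat_lit 6),
  .both (nat_lit 126) (nat_lit 1),
  .both (nat_lit 67) (nat_lit 2),
  .both (nat_lit 103) (nat_lit 2),
  .both (nat_lit 92) (nat_lit 2),
  .both (nat_lit 78) (nat_lit 1),
  .both (nat_lit 119) (nat_lit 1),
  .both (nat_lit 14) (nat_lit 4),
  .both (nat_lit 53) (nat_lit 1),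
  .both (nat_lit 60) (nat_lit 1),
  .both (nat_lit 33) (nat_lit 1),
  .both (nat_lit 39) (nat_lit 1),
  .both (nat_lit 180) (nat_lit 2),
  .sym (nat_lit 5),
  .sym (nat_lit 6),
  .both (nat_lit 46) (nat_lit 1),
  .both (nat_lit 60) (nat_lit 1),
  .both (nat_lit 126) (nat_lit 1),
  .both (nat_lit 33) (nat_lit 1),
  .both (nat_lit 53) (nat_lit 1),
  .both (nat_lit 165) (nat_lit 4),
  .sym (nat_lit 2),
  .sym (nat_lit 3),
  .both (nat_lit 113) (nat_lit 1),
  .both (nat_lit 126) (nat_lit 1),
  .both (nat_lit 33) (nat_lit 1),
  .both (nat_lit 119) (nat_lit 1),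
  .both (nat_lit 67) (nat_lit 2),
  .both (nat_lit 103) (nat_lit 2),
  .both (nat_lit 78) (nat_lit 1),
  .both (nat_lit 145) (nat_lit 1),
  .both (nat_lit 126) (nat_lit 1),
  .both (nat_lit 178) (nat_lit 2),
  .sym (nat_lit 0),
  .sym (nat_lit 5),
  .both (nat_lit 92) (nat_lit 2),
  .both (nat_lit 119) (nat_lit 1),
  .both (nat_lit 85) (nat_lit 1),
  .both (nat_lit 156) (nat_lit 1),
  .both (nat_lit 182) (nat_lit 2),
  .sym (nat_lit 0),
  .sym (nat_lit 6),
  .both (nat_lit 39) (nat_lit 1),
  .both (nat_lit 33) (nat_lit 1),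
  .both (nat_lit 46) (nat_lit 1),
  .both (nat_lit 53) (nat_lit 1),
  .both (nat_lit 139) (nat_lit 1),
  .both (nat_lit 181) (nat_lit 2),
  .sym (nat_lit 5),
  .sym (nat_lit 6),
  .both (nat_lit 103) (nat_lit 2),
  .both (nat_lit 126) (nat_lit 1),
  .both (nat_lit 67) (nat_lit 2),
  .both (nat_lit 78) (nat_lit 1),
  .both (nat_lit 85) (nat_lit 1),
  .both (nat_lit 92) (nat_lit 2),
  .both (nat_lit 119) (nat_lit 1),
  .both (nat_lit 182) (nat_lit 2),
  .sym (nat_lit 0),
  .sym (nat_lit 6),
  .both (nat_lit 39) (nat_lit 1),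
  .both (nat_lit 33) (nat_lit 1),
  .both (nat_lit 67) (nat_lit 2),
  .both (nat_lit 126) (nat_lit 1),
  .both (nat_lit 78) (nat_lit 1),
  .both (nat_lit 119) (nat_lit 1),
  .both (nat_lit 161) (nat_lit 4),
  .sym (nat_lit 0),
  .sym (nat_lit 2),
  .both (nat_lit 46) (nat_lit 1),
  .both (nat_lit 53) (nat_lit 1),
  .both (nat_lit 60) (nat_lit 1),
  .both (nat_lit 113) (nat_lit 1),
  .both (nat_lit 67) (nat_lit 2),
  .both (nat_lit 126) (nat_lit 1),
  .both (nat_lit 103) (nat_lit 2),
  .both (nat_lit 119) (nat_lit 1),
  .both (nat_lit 92) (nat_lit 2),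
  .both (nat_lit 178) (nat_lit 2),
  .sym (nat_lit 0),
  .sym (nat_lit 5),
  .both (nat_lit 39) (nat_lit 1),
  .both (nat_lit 33) (nat_lit 1),
  .both (nat_lit 78) (nat_lit 1),
  .both (nat_lit 60) (nat_lit 1),
  .both (nat_lit 139) (nat_lit 1),
  .both (nat_lit 67) (nat_lit 2),
  .both (nat_lit 119) (nat_lit 1),
  .both (nat_lit 85) (nat_lit 1),
  .both (nat_lit 46) (nat_lit 1),
  .both (nat_lit 126) (nat_lit 1),
  .both (nat_lit 39) (nat_lit 1),
  .both (nat_lit 33) (nat_lit 1),
  .both (nat_lit 53) (nat_lit 1),
  .both (nat_lit 181) (nat_lit 2),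
  .sym (nat_lit 5),
  .sym (nat_lit 6),
  .both (nat_lit 145) (nat_lit 1),
  .both (nat_lit 103) (nat_lit 2),
  .both (nat_lit 126) (nat_lit 1),
  .both (nat_lit 60) (nat_lit 1),
  .both (nat_lit 92) (nat_lit 2),
  .both (nat_lit 46) (nat_lit 1),
  .both (nat_lit 156) (nat_lit 1),
  .both (nat_lit 178) (nat_lit 2),
  .sym (nat_lit 0),
  .sym (nat_lit 5),
  .both (nat_lit 33) (nat_lit 1),
  .both (nat_lit 39) (nat_lit 1),
  .both (nat_lit 78) (nat_lit 1),
  .both (nat_lit 145) (nat_lit 1),
  .both (nat_lit 139) (nat_lit 1),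
  .both (nat_lit 119) (nat_lit 1),
  .both (nat_lit 67) (nat_lit 2),
  .both (nat_lit 46) (nat_lit 1),
  .both (nat_lit 33) (nat_lit 1),
  .both (nat_lit 53) (nat_lit 1),
  .both (nat_lit 60) (nat_lit 1),
  .both (nat_lit 39) (nat_lit 1),
  .both (nat_lit 33) (nat_lit 1),
  .both (nat_lit 46) (nat_lit 1),
  .both (nat_lit 60) (nat_lit 1),
  .both (nat_lit 53) (nat_lit 1),
  .both (nat_lit 92) (nat_lit 2),
  .both (nat_lit 85) (nat_lit 1),
  .both (nat_lit 113) (nat_lit 1),
  .both (nat_lit 164) (nat_lit 4),
  .sym (nat_lit 3),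
  .both (nat_lit 113) (nat_lit 1),
  .both (nat_lit 139) (nat_lit 1),
  .both (nat_lit 156) (nat_lit 1),
  .both (nat_lit 178) (nat_lit 2),
  .both (nat_lit 78) (nat_lit 1),
  .both (nat_lit 85) (nat_lit 1),
  .both (nat_lit 139) (nat_lit 1)]

theorem run2 : sub (fullK B N 7) (runK B ns (ivT IVc 7) RT LT 410 111 st2 K2) = true := by
  decide +kernel

end

end CL.CGT.Suz.T2
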