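import Cfsg.Agent.CGT.Suz.T2E
import Cfsg.Agent.CGT.Suz.T2R0

set_option maxRecDepth 100000

namespace CL.CGT.Suz.T2

noncomputable section

theorem good {G : Type*} [Group G] {γ : ℕ → G} (hiv : ∀ c, γ (CL.CGT.Suz.iv0 c) = (γ c)⁻¹)
    (hb : ∀ r ∈ CL.CGT.Suz.base, wval γ r = 1) :
    Good (colW γ cw) (gen γ subs) B ns (fullK B N 7) :=
  have hy := tcHyp_of hiv hb ok hE setup (mask_mem hiv mask)
  ((good_start hy run0).run hy run1).run hy run2

/-- the real columns. -/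
def gens : List (List ℕ) := [[nat_lit 0],
  [nat_lit 1],
  [nat_lit 2],
  [nat_lit 3],
  [nat_lit 4],
  [nat_lit 5],
  [nat_lit 6]]

theorem relIndex_le {G : Type*} [Group G] {γ : ℕ → G} (hiv : ∀ c, γ (CL.CGT.Suz.iv0 c) = (γ c)⁻¹)
    (hb : ∀ r ∈ CL.CGT.Suz.base, wval γ r = 1) :
    (gen γ subs).relIndex (gen γ gens) ≠ 0 ∧ (gen γ subs).relIndex (gen γ gens) ≤ 22880 := by
  have h := (good hiv hb).relIndex_le ok inv
  rwa [genLt_colW] at h

end

end CL.CGT.Suz.T2
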