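import Cfsg.Agent.CGT.Suz.T2
import Cfsg.Agent.CGT.Univ

set_option maxRecDepth 100000

noncomputable section

namespace CL.CGT.Suz.T2

theorem gens_top : gen CL.CGT.Suz.γ gens = ⊤ := by
  rw [show gens = sgl 7 by decide +kernel, gen_sgl, CL.CGT.Suz.genLt_top]

theorem isCoset : IsCoset ρ (gen ρ.γ subs) 22880 :=
  isCoset_of ρ (good CL.CGT.Suz.hiv CL.CGT.Suz.hb) inv CL.CGT.Suz.genLt_top (gens := gens) (tree := [nat_lit
    4, nat_lit 3, nat_lit 2, nat_lit 3, nat_lit 4, nat_lit 1, nat_lit 2, nat_lit 3, nat_lit 4, nat_lit 5,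
    nat_lit 6, nat_lit 0, nat_lit 1, nat_lit 2, nat_lit 3, nat_lit 4, nat_lit 5, nat_lit 6, nat_lit 0,
    nat_lit 1, nat_lit 2, nat_lit 3, nat_lit 4, nat_lit 5, nat_lit 6, nat_lit 0, nat_lit 1, nat_lit 2,
    nat_lit 3, nat_lit 4, nat_lit 5, nat_lit 6, nat_lit 0, nat_lit 1, nat_lit 2, nat_lit 3, nat_lit 4,
    nat_lit 5, nat_lit 1])
    (by decide +kernel)

end CL.CGT.Suz.T2

end
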