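import Cfsg.Agent.CGT.Suz.T2E0

set_option maxRecDepth 100000

namespace CL.CGT.Suz.T2

noncomputable section

theorem hE0 : ∀ e ∈ (takeL 33 (dropL 0 E)), wval (pm ns) e.1 = wval (pm ns) e.2 :=
  wval_pm_eq_of_eqRange ok (w := 15) (by decide) (eqRange_cons eq0_0 (j' := 7) rfl (eqRange_cons eq0_7 (j' :=
    14) rfl (eqRange_cons eq0_14 (j' := 15) rfl (eqRange_end))))

theorem hE : ∀ e ∈ E, wval (pm ns) e.1 = wval (pm ns) e.2 :=
  forall_start (forall_split hE0 (k' := 33) rfl (forall_end (by decide +kernel)))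

/-- the permutation representation on the cosets. -/
def ρ : Rep Cfsg.Spor.Suz := CL.CGT.Suz.cox.rep ok hE (ids := [nat_lit 0, nat_lit 7, nat_lit 8, nat_lit 9,
    nat_lit 10, nat_lit 11, nat_lit 12, nat_lit 0, nat_lit 13, nat_lit 14, nat_lit 15, nat_lit 16, nat_lit
    17, nat_lit 0, nat_lit 18, nat_lit 19, nat_lit 20, nat_lit 21, nat_lit 0, nat_lit 22, nat_lit 23, nat_lit
    24, nat_lit 0, nat_lit 25, nat_lit 26, nat_lit 0, nat_lit 27, nat_lit 0, nat_lit 28, nat_lit 29, nat_lit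
    30, nat_lit 31, nat_lit 32]) (by decide +kernel)

end

end CL.CGT.Suz.T2
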