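import Cfsg.Agent.CGT.Suz.T2N

set_option maxRecDepth 100000

namespace CL.CGT.Suz.T2

noncomputable section

theorem eq0_0 : eqRange ns B 15 (takeL 33 (dropL 0 E)) 0 7 = true := by decide +kernel

theorem eq0_7 : eqRange ns B 15 (takeL 33 (dropL 0 E)) 7 7 = true := by decide +kernel

theorem eq0_14 : eqRange ns B 15 (takeL 33 (dropL 0 E)) 14 1 = true := by decide +kernel

end

end CL.CGT.Suz.T2
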